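import Mathlib
import Groth.Agent.EtAcyc.K142.GenDesc

/-!
# Finite extensions of `D[1/d]` inside an algebraic extension field
-/

set_option autoImplicit false
set_option linter.style.haveILetI false
universe u
open TensorProduct

namespace K142.GenBase

variable {D Ω : Type u} [CommRing D] [IsDomain D] [Field Ω] [Algebra D Ω]

/-- The subalgebra generated by `W` and `1/d`. -/
noncomputable def sub (d : D) (W : Finset Ω) : Subalgebra D Ω :=
  Algebra.adjoin D (insert (algebraMap D Ω d)⁻¹ (W : Set Ω))

omit [IsDomain D] in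
theorem inv_mem_sub (d : D) (W : Finset Ω) : (algebraMap D Ω d)⁻¹ ∈ sub d W :=
  Algebra.subset_adjoin (Set.mem_insert _ _)

omit [IsDomain D] in
theorem subset_sub (d : D) (W : Finset Ω) : (W : Set Ω) ⊆ sub d W := fun _ hw =>
  Algebra.subset_adjoin (Set.mem_insert_of_mem _ hw)

theorem inv_mem_of_dvd (hinj : Function.Injective (algebraMap D Ω)) {a d : D} (hd : d ≠ 0) (h : a ∣ d)
    (W : Finset Ω) : (algebraMap D Ω a)⁻¹ ∈ sub d W := by
  obtain ⟨c, rfl⟩ := h
  have ha : algebraMap D Ω a ≠ 0 := fun h => hd (by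
    have : a = 0 := hinj (by rw [h, map_zero])
    rw [this, zero_mul])
  have hc : algebraMap D Ω c ≠ 0 := fun h => hd (by
    have : c = 0 := hinj (by rw [h, map_zero])
    rw [this, mul_zero])
  have h1 : (algebraMap D Ω a)⁻¹ = algebraMap D Ω c * (algebraMap D Ω (a * c))⁻¹ := by
    rw [map_mul]
    field_simp
  rw [h1]
  exact mul_mem ((sub (a * c) W).algebraMap_mem c) (inv_mem_sub _ _)

theorem isUnit_sub (hinj : Function.Injective (algebraMap D Ω)) {a d : D} (hd : d ≠ 0) (h : a ∣ d)
    (W : Finset Ω) : IsUnit (algebraMap D (sub d W) a) := by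
  have ha : algebraMap D Ω a ≠ 0 := fun h' => hd (by
    have : a = 0 := hinj (by rw [h', map_zero])
    obtain ⟨c, rfl⟩ := h
    rw [this, zero_mul])
  refine IsUnit.of_mul_eq_one ⟨(algebraMap D Ω a)⁻¹, inv_mem_of_dvd hinj hd h W⟩ (Subtype.ext ?_)
  exact mul_inv_cancel₀ ha

theorem sub_mono (hinj : Function.Injective (algebraMap D Ω)) {d d' : D} (hd' : d' ≠ 0) (h : d ∣ d')
    (W : Finset Ω) : sub d W ≤ sub d' W := by
  apply Algebra.adjoin_le
  rintro x (rfl | hx)
  · exact inv_mem_of_dvd hinj hd' h W
  · exact subset_sub _ _ hx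

theorem exists_integral_data [Algebra.IsAlgebraic D Ω] (W : Finset Ω) :
    ∃ d : D, d ≠ 0 ∧ ∀ w ∈ W, ∃ m : D, m ∣ d ∧ IsIntegral D (m • w) := by
  classical
  have h : ∀ w : Ω, ∃ m : D, m ≠ 0 ∧ IsIntegral D (m • w) := fun w =>
    (Algebra.IsAlgebraic.isAlgebraic (R := D) w).exists_integral_multiple
  choose m hm hi using h
  exact ⟨∏ w ∈ W, m w, Finset.prod_ne_zero_iff.2 fun w _ => hm w, fun w hw =>
    ⟨m w, Finset.dvd_prod_of_mem m hw, hi w⟩⟩

theorem finite_sub (hinj : Function.Injective (algebraMap D Ω)) {d : D} (hd : d ≠ 0) (W : Finset Ω)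
    (hW : ∀ w ∈ W, ∃ m : D, m ∣ d ∧ IsIntegral D (m • w)) :
    ∃ (_ : Algebra (Localization.Away d) (sub d W)), IsScalarTower D (Localization.Away d) (sub d W) ∧
      Module.Finite (Localization.Away d) (sub d W) ∧
      Function.Injective (algebraMap (Localization.Away d) (sub d W)) := by
  have hu := isUnit_sub hinj hd dvd_rfl W
  letI alg : Algebra (Localization.Away d) (sub d W) := (IsLocalization.Away.lift d hu).toAlgebra
  haveI tow : IsScalarTower D (Localization.Away d) (sub d W) :=
    .of_algebraMap_eq fun x => (IsLocalization.Away.lift_eq d hu x).symm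
  have hinjB : Function.Injective (algebraMap D (sub d W)) := fun x y hxy => hinj (congrArg Subtype.val hxy)
  have hinjA : Function.Injective (algebraMap (Localization.Away d) (sub d W)) := by
    rw [IsLocalization.injective_iff_map_algebraMap_eq (Submonoid.powers d)]
    intro x z
    rw [← IsScalarTower.algebraMap_apply, ← IsScalarTower.algebraMap_apply, hinjB.eq_iff,
      (IsLocalization.injective (Localization.Away d)
        (powers_le_nonZeroDivisors_of_noZeroDivisors hd)).eq_iff]
  have hft0 : Algebra.FiniteType D (sub d W) := by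
    classical
    have h1 : (sub d W).FG := ⟨insert (algebraMap D Ω d)⁻¹ W, by rw [Finset.coe_insert]; rfl⟩
    exact (Subalgebra.fg_iff_finiteType _).1 h1
  have hft : Algebra.FiniteType (Localization.Away d) (sub d W) :=
    Algebra.FiniteType.of_restrictScalars_finiteType D (Localization.Away d) (sub d W)
  -- inverses of divisors of `d`
  have hinv : ∀ m : D, m ∣ d → ∃ r : Localization.Away d, algebraMap (Localization.Away d) (sub d W) r *
      algebraMap D (sub d W) m = 1 := by
    rintro m ⟨c, hc⟩
    have h1 : IsUnit (algebraMap D (Localization.Away d) m) :=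
      isUnit_of_mul_isUnit_left (y := algebraMap D (Localization.Away d) c) (by
        rw [← map_mul, ← hc]; exact IsLocalization.Away.algebraMap_isUnit d)
    obtain ⟨r, hr⟩ := h1.exists_left_inv
    refine ⟨r, ?_⟩
    rw [IsScalarTower.algebraMap_apply D (Localization.Away d) (sub d W), ← map_mul, hr, map_one]
  have hint : ∀ (x : Ω) (hx : x ∈ sub d W), IsIntegral (Localization.Away d) (⟨x, hx⟩ : sub d W) := by
    intro x hx
    induction hx using Algebra.adjoin_induction with
    | mem x hx =>
      rcases hx with rfl | hx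
      · obtain ⟨r, hr⟩ := hinv d dvd_rfl
        have h2 : (⟨(algebraMap D Ω d)⁻¹, inv_mem_sub d W⟩ : sub d W) =
            algebraMap (Localization.Away d) (sub d W) r := by
          apply hu.mul_right_cancel
          rw [hr]
          apply Subtype.ext
          exact inv_mul_cancel₀ (fun h => hd (hinj (by rw [h, map_zero])))
        have h3 : IsIntegral (Localization.Away d) (⟨(algebraMap D Ω d)⁻¹, inv_mem_sub d W⟩ : sub d W) := by
          rw [h2]; exact isIntegral_algebraMap
        exact h3
      · obtain ⟨m, hmd, hm⟩ := hW x hx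
        have hxs : x ∈ sub d W := subset_sub d W hx
        have h4 : IsIntegral D (m • (⟨x, hxs⟩ : sub d W)) := by
          rw [← isIntegral_algHom_iff (sub d W).val Subtype.val_injective]
          exact hm
        obtain ⟨r, hr⟩ := hinv m hmd
        have h5 : (⟨x, hxs⟩ : sub d W) = algebraMap (Localization.Away d) (sub d W) r *
            (m • (⟨x, hxs⟩ : sub d W)) := by
          rw [Algebra.smul_def, ← mul_assoc, hr, one_mul]
        have h6 : IsIntegral (Localization.Away d) (⟨x, hxs⟩ : sub d W) := by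
          rw [h5]
          exact isIntegral_algebraMap.mul h4.tower_top
        exact h6
    | algebraMap r =>
      have h7 : (⟨algebraMap D Ω r, (sub d W).algebraMap_mem r⟩ : sub d W) =
          algebraMap (Localization.Away d) (sub d W) (algebraMap D (Localization.Away d) r) := by
        rw [← IsScalarTower.algebraMap_apply]; rfl
      have h8 : IsIntegral (Localization.Away d) (⟨algebraMap D Ω r, (sub d W).algebraMap_mem r⟩ : sub d W) := by
        rw [h7]; exact isIntegral_algebraMap
      exact h8
    | add x y hx hy h1 h2 => exact (h1.add h2 : IsIntegral (Localization.Away d) ((⟨x, hx⟩ : sub d W) + ⟨y, hy⟩))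
    | mul x y hx hy h1 h2 => exact (h1.mul h2 : IsIntegral (Localization.Away d) ((⟨x, hx⟩ : sub d W) * ⟨y, hy⟩))
  have hI : Algebra.IsIntegral (Localization.Away d) (sub d W) := ⟨fun x => hint x.1 x.2⟩
  exact ⟨alg, tow, Algebra.IsIntegral.finite, hinjA⟩

/-- A nonzero element of `sub d W` becomes invertible in a larger `sub d' W`. -/
theorem exists_isUnit [Algebra.IsAlgebraic D Ω] (hinj : Function.Injective (algebraMap D Ω)) {d : D} (hd : d ≠ 0)
    (W : Finset Ω) (g : sub d W) (hg : g ≠ 0) :
    ∃ d' : D, d' ≠ 0 ∧ d ∣ d' ∧ ∀ hle : sub d W ≤ sub d' W, IsUnit (Subalgebra.inclusion hle g) := by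
  have hg' : (g : Ω) ≠ 0 := fun h => hg (Subtype.ext h)
  have hgalg : IsAlgebraic D g := (isAlgebraic_algHom_iff (sub d W).val Subtype.val_injective).1
    (Algebra.IsAlgebraic.isAlgebraic (g : Ω))
  obtain ⟨a, ha, h, hh⟩ := hgalg.exists_nonzero_dvd (mem_nonZeroDivisors_of_ne_zero hg)
  refine ⟨d * a, mul_ne_zero hd ha, dvd_mul_right _ _, fun hle => ?_⟩
  have h1 : IsUnit (algebraMap D (sub (d * a) W) a) := isUnit_sub hinj (mul_ne_zero hd ha) (dvd_mul_left _ _) W
  have h2 : algebraMap D (sub (d * a) W) a = Subalgebra.inclusion hle g * Subalgebra.inclusion hle h := by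
    rw [← map_mul, ← hh]
    rfl
  rw [h2] at h1
  exact isUnit_of_mul_isUnit_left h1

omit [IsDomain D] in
/-- Finitely many tensors are defined over large subalgebras. -/
theorem exists_finset {C : Type u} [CommRing C] [Algebra D C] (s : Finset (Ω ⊗[D] C)) :
    ∃ W : Finset Ω, ∀ B : Subalgebra D Ω, (W : Set Ω) ⊆ B → ∀ x ∈ s, x ∈ (K142.Gen.bcMap D Ω C B).range := by
  classical
  have h1 : ∀ x : Ω ⊗[D] C, ∃ W : Finset Ω, ∀ B : Subalgebra D Ω, (W : Set Ω) ⊆ B →
      x ∈ (K142.Gen.bcMap D Ω C B).range := by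
    intro x
    induction x using TensorProduct.induction_on with
    | zero => exact ⟨∅, fun B _ => zero_mem _⟩
    | add x y hx hy =>
      obtain ⟨W, hW⟩ := hx
      obtain ⟨V, hV⟩ := hy
      refine ⟨W ∪ V, fun B hB => add_mem (hW B ?_) (hV B ?_)⟩
      · exact (Finset.coe_subset.2 Finset.subset_union_left).trans hB
      · exact (Finset.coe_subset.2 Finset.subset_union_right).trans hB
    | tmul ω c =>
      refine ⟨{ω}, fun B hB => ?_⟩
      have hω : ω ∈ B := hB (by simp)
      exact ⟨(⟨ω, hω⟩ : B) ⊗ₜ c, rfl⟩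
  choose W hW using h1
  refine ⟨s.biUnion W, fun B hB x hx => hW x B ?_⟩
  exact (Finset.coe_subset.2 (Finset.subset_biUnion_of_mem W hx)).trans hB

end K142.GenBase
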