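import Mathlib
import Groth.Agent.CalgC.RegSmooth

/-!
# Generic smoothness from the geometric generic fibre

* A normal domain of finite type and dimension at most one over a perfect field is smooth.
* If `Ω ⊗[B] A` is smooth over `Ω` then, after inverting one nonzero element of the domain `B`, the algebra `A`
  is smooth over `B`.
* If `Ω ⊗[B] A = Ω` then, after inverting one nonzero element of `B`, `B → A` is bijective.
-/

set_option autoImplicit false
set_option linter.style.haveILetI false
universe u
open TensorProduct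

namespace K142.GenSmooth

theorem smooth_geom (Ω R : Type u) [Field Ω] [PerfectField Ω] [CommRing R] [IsDomain R] [IsIntegrallyClosed R]
    [Algebra Ω R] [Algebra.FiniteType Ω R] (hdim : ringKrullDim R ≤ 1) : Algebra.Smooth Ω R := by
  have : IsNoetherianRing R := Algebra.FiniteType.isNoetherianRing Ω R
  have : Ring.KrullDimLE 1 R := Ring.krullDimLE_iff.2 (by simpa using hdim)
  have : Ring.DimensionLEOne R :=
    ⟨fun h1 h2 => Ring.krullDimLE_one_iff_of_noZeroDivisors.1 inferInstance _ h1 h2⟩
  have : IsDedekindDomain R := {}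
  have : Algebra.FinitePresentation Ω R := Algebra.FinitePresentation.of_finiteType.1 inferInstance
  refine ⟨?_, inferInstance⟩
  rw [← Algebra.smoothLocus_eq_univ_iff, Set.eq_univ_iff_forall]
  intro q
  exact (Groth.Agent.CalgC.RegSmooth.isSmoothAt_iff_isRegularLocalRing_of_perfectField q.asIdeal).2 inferInstance

attribute [local instance] Algebra.TensorProduct.rightAlgebra in
/-- Spreading out smoothness from the generic fibre. -/
theorem exists_smooth_of_generic {B A : Type u} [CommRing B] [IsDomain B] [CommRing A] [Algebra B A]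
    [Algebra.FinitePresentation B A] (L : Type u) [Field L] [Algebra B L] [IsFractionRing B L]
    (h : Algebra.Smooth L (L ⊗[B] A)) :
    ∃ b : B, b ≠ 0 ∧ Algebra.Smooth B (Localization.Away (algebraMap B A b)) := by
  have hloc : IsLocalization (Algebra.algebraMapSubmonoid A (nonZeroDivisors B)) (L ⊗[B] A) :=
    IsLocalization.tensorRight L (nonZeroDivisors B)
  have hBL : Algebra.FormallySmooth B L := Algebra.FormallySmooth.of_isLocalization (nonZeroDivisors B)
  have hBAL : Algebra.FormallySmooth B (L ⊗[B] A) := Algebra.FormallySmooth.comp B L (L ⊗[B] A)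
  -- the smooth locus contains the generic fibre
  have hgen : ∀ p : PrimeSpectrum (L ⊗[B] A),
      PrimeSpectrum.comap (algebraMap A (L ⊗[B] A)) p ∈ Algebra.smoothLocus B A := by
    intro p
    let q := PrimeSpectrum.comap (algebraMap A (L ⊗[B] A)) p
    have h1 : IsLocalization.AtPrime (Localization.AtPrime p.asIdeal) q.asIdeal :=
      IsLocalization.isLocalization_isLocalization_atPrime_isLocalization
        (Algebra.algebraMapSubmonoid A (nonZeroDivisors B)) _ p.asIdeal
    have h2 : Algebra.FormallySmooth B (Localization.AtPrime p.asIdeal) := by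
      have : Algebra.FormallySmooth (L ⊗[B] A) (Localization.AtPrime p.asIdeal) :=
        Algebra.FormallySmooth.of_isLocalization p.asIdeal.primeCompl
      exact Algebra.FormallySmooth.comp B (L ⊗[B] A) _
    exact (Algebra.FormallySmooth.iff_of_equiv
      ((IsLocalization.algEquiv q.asIdeal.primeCompl (Localization.AtPrime q.asIdeal)
        (Localization.AtPrime p.asIdeal)).restrictScalars B)).2 h2
  obtain ⟨I, hI⟩ := (PrimeSpectrum.isClosed_iff_zeroLocus_ideal _).1
    (Algebra.isOpen_smoothLocus (R := B) (A := A)).isClosed_compl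
  have htop : I.map (algebraMap A (L ⊗[B] A)) = ⊤ := by
    by_contra hne
    obtain ⟨P, hP, hle⟩ := Ideal.exists_le_maximal _ hne
    have h3 := hgen ⟨P, hP.isPrime⟩
    have h4 : PrimeSpectrum.comap (algebraMap A (L ⊗[B] A)) ⟨P, hP.isPrime⟩ ∈
        (Algebra.smoothLocus B A)ᶜ := by
      rw [hI, PrimeSpectrum.mem_zeroLocus]
      exact Ideal.map_le_iff_le_comap.1 hle
    exact h4 h3
  have hnd : ¬ Disjoint ((Algebra.algebraMapSubmonoid A (nonZeroDivisors B) : Submonoid A) : Set A) (I : Set A) :=
    fun hd => (IsLocalization.map_algebraMap_ne_top_iff_disjoint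
      (Algebra.algebraMapSubmonoid A (nonZeroDivisors B)) (L ⊗[B] A) I).2 hd htop
  obtain ⟨_, ⟨b, hb, rfl⟩, hbI⟩ := Set.not_disjoint_iff.1 hnd
  refine ⟨b, nonZeroDivisors.ne_zero hb, (Algebra.basicOpen_subset_smoothLocus_iff_smooth).1 ?_⟩
  intro q hq
  by_contra hn
  have h5 : q ∈ PrimeSpectrum.zeroLocus (I : Set A) := hI ▸ hn
  exact hq (h5 hbI)

theorem smooth_baseChange {B A : Type u} [CommRing B] [CommRing A] [Algebra B A]
    [Algebra.FinitePresentation B A] (b : B)
    (h : Algebra.Smooth B (Localization.Away (algebraMap B A b))) (E : Type u) [CommRing E] [Algebra B E]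
    (hE : IsUnit (algebraMap B E b)) : Algebra.Smooth E (E ⊗[B] A) := by
  let Bb := Localization.Away b
  letI : Algebra Bb E := (IsLocalization.Away.lift b hE).toAlgebra
  haveI : IsScalarTower B Bb E := .of_algebraMap_eq fun x => (IsLocalization.Away.lift_eq b hE x).symm
  have h1 : Algebra.FormallySmooth B (Bb ⊗[B] A) := by
    letI := Algebra.TensorProduct.rightAlgebra (R := B) (A := Bb) (B := A)
    exact (Algebra.FormallySmooth.iff_of_equiv
      ((IsLocalization.Away.tensorRightEquiv A b Bb).restrictScalars B)).2 h.1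
  have h2 : Algebra.FormallySmooth Bb (Bb ⊗[B] A) := Algebra.FormallySmooth.localization_base (Submonoid.powers b)
  have h3 : Algebra.Smooth Bb (Bb ⊗[B] A) := ⟨h2, inferInstance⟩
  have h4 : Algebra.Smooth E (E ⊗[Bb] (Bb ⊗[B] A)) := inferInstance
  exact Algebra.Smooth.of_equiv (Algebra.TensorProduct.cancelBaseChange B Bb E E A)

/-- Smoothness of the geometric generic fibre spreads out. -/
theorem exists_smooth {B A : Type u} [CommRing B] [IsDomain B] [CommRing A] [Algebra B A]
    [Algebra.FinitePresentation B A] (Ω : Type u) [Field Ω] [Algebra B Ω]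
    (hinj : Function.Injective (algebraMap B Ω)) (h : Algebra.Smooth Ω (Ω ⊗[B] A)) :
    ∃ b : B, b ≠ 0 ∧ ∀ (E : Type u) [CommRing E] [Algebra B E], IsUnit (algebraMap B E b) →
      Algebra.Smooth E (E ⊗[B] A) := by
  let L := FractionRing B
  letI : Algebra L Ω := (IsFractionRing.lift hinj).toAlgebra
  haveI : IsScalarTower B L Ω := .of_algebraMap_eq fun x => (IsFractionRing.lift_algebraMap hinj x).symm
  have h1 : Algebra.Smooth Ω (Ω ⊗[L] (L ⊗[B] A)) :=
    Algebra.Smooth.of_equiv (Algebra.TensorProduct.cancelBaseChange B L Ω Ω A).symm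
  have h2 : Algebra.Smooth L (L ⊗[B] A) := Algebra.Smooth.of_smooth_tensorProduct_of_faithfullyFlat Ω
  obtain ⟨b, hb, h3⟩ := exists_smooth_of_generic L h2
  exact ⟨b, hb, fun E _ _ hE => smooth_baseChange b h3 E hE⟩

end K142.GenSmooth
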