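import Groth.Agent.EtAcyc.K142.GenNoeth
import Groth.Agent.EtAcyc.K142.GenSmooth

/-!
# Generic bijectivity
-/

set_option autoImplicit false
set_option linter.style.haveILetI false
universe u
open TensorProduct

namespace K142.GenBij

/-- If `Ω → Ω ⊗[B] A` is surjective, then `E → E ⊗[B] A` is surjective after inverting some `b ≠ 0`. -/
theorem exists_surjective {B A : Type u} [CommRing B] [IsDomain B] [CommRing A] [Algebra B A]
    [Algebra.FiniteType B A] (Ω : Type u) [Field Ω] [Algebra B Ω]
    (hinj : Function.Injective (algebraMap B Ω)) (h : Function.Surjective (algebraMap Ω (Ω ⊗[B] A))) :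
    ∃ b : B, b ≠ 0 ∧ ∀ (E : Type u) [CommRing E] [Algebra B E], IsUnit (algebraMap B E b) →
      Function.Surjective (algebraMap E (E ⊗[B] A)) := by
  classical
  let L := FractionRing B
  letI : Algebra L Ω := (IsFractionRing.lift hinj).toAlgebra
  haveI : IsScalarTower B L Ω := .of_algebraMap_eq fun x => (IsFractionRing.lift_algebraMap hinj x).symm
  have hL : Function.Surjective (Algebra.linearMap L (L ⊗[B] A)) := by
    rw [← Module.FaithfullyFlat.lTensor_surjective_iff_surjective L Ω]
    intro z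
    obtain ⟨ω, hω⟩ := h (Algebra.TensorProduct.cancelBaseChange B L Ω Ω A z)
    refine ⟨ω ⊗ₜ 1, (Algebra.TensorProduct.cancelBaseChange B L Ω Ω A).injective ?_⟩
    rw [← hω, LinearMap.lTensor_tmul, Algebra.linearMap_apply, map_one, Algebra.TensorProduct.one_def,
      Algebra.TensorProduct.cancelBaseChange_tmul, one_smul]
    rfl
  have hgen : ∀ a : A, ∃ (t c : B), t ≠ 0 ∧ t • a = algebraMap B A c := by
    intro a
    obtain ⟨l, hl⟩ := hL ((1 : L) ⊗ₜ[B] a)
    obtain ⟨⟨c, s⟩, hs⟩ := IsLocalization.surj (nonZeroDivisors B) l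
    have hs' : l * algebraMap B L s = algebraMap B L c := hs
    have h1 : (1 : L) ⊗ₜ[B] ((s : B) • a - algebraMap B A c) = 0 := by
      have h2 : (1 : L) ⊗ₜ[B] ((s : B) • a) = algebraMap B L s • ((1 : L) ⊗ₜ[B] a) := by
        rw [TensorProduct.tmul_smul, TensorProduct.smul_tmul', TensorProduct.smul_tmul', Algebra.smul_def,
          smul_eq_mul]
      have h3 : (1 : L) ⊗ₜ[B] (algebraMap B A c) = algebraMap B L c • ((1 : L) ⊗ₜ[B] (1 : A)) := by
        rw [Algebra.algebraMap_eq_smul_one c, TensorProduct.tmul_smul, TensorProduct.smul_tmul',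
          TensorProduct.smul_tmul', Algebra.smul_def, smul_eq_mul]
      have h4 : (Algebra.linearMap L (L ⊗[B] A)) l = l • ((1 : L) ⊗ₜ[B] (1 : A)) := by
        rw [Algebra.linearMap_apply, Algebra.algebraMap_eq_smul_one, Algebra.TensorProduct.one_def]
      rw [TensorProduct.tmul_sub, h2, h3, ← hl, ← hs', h4, mul_comm l, mul_smul, sub_self]
    obtain ⟨t, ht, h4⟩ := K142.GenNoeth.exists_torsion L _ h1
    refine ⟨t * s, t * c, mul_ne_zero ht (nonZeroDivisors.ne_zero s.2), ?_⟩
    rw [smul_sub, sub_eq_zero] at h4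
    rw [mul_smul, h4, map_mul, Algebra.smul_def]
  choose t c ht0 htc using hgen
  obtain ⟨S, hS⟩ := (inferInstance : Algebra.FiniteType B A).out
  refine ⟨∏ a ∈ S, t a, Finset.prod_ne_zero_iff.2 fun a _ => ht0 a, fun E _ _ hE => ?_⟩
  have hu : ∀ a ∈ S, IsUnit (algebraMap B E (t a)) := fun a ha =>
    isUnit_of_dvd_unit (map_dvd _ (Finset.dvd_prod_of_mem t ha)) hE
  have hall : ∀ a : A, (1 : E) ⊗ₜ[B] a ∈ (algebraMap E (E ⊗[B] A)).range := by
    intro a
    have ha : a ∈ Algebra.adjoin B (S : Set A) := by rw [hS]; trivial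
    induction ha using Algebra.adjoin_induction with
    | mem x hx =>
      obtain ⟨v, hv⟩ := (hu x hx).exists_left_inv
      refine ⟨v * algebraMap B E (c x), ?_⟩
      have h5 : algebraMap B E (c x) ⊗ₜ[B] (1 : A) = algebraMap B E (t x) ⊗ₜ[B] x := by
        rw [Algebra.algebraMap_eq_smul_one, Algebra.algebraMap_eq_smul_one, TensorProduct.smul_tmul,
          TensorProduct.smul_tmul, htc, Algebra.algebraMap_eq_smul_one]
      have h6 : (v * algebraMap B E (c x)) ⊗ₜ[B] (1 : A) = v • (algebraMap B E (c x) ⊗ₜ[B] (1 : A)) := rfl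
      rw [Algebra.TensorProduct.algebraMap_apply, Algebra.algebraMap_self_apply, h6, h5,
        TensorProduct.smul_tmul', smul_eq_mul, hv]
    | algebraMap r =>
      refine ⟨algebraMap B E r, ?_⟩
      rw [Algebra.TensorProduct.algebraMap_apply, Algebra.algebraMap_self_apply,
        Algebra.algebraMap_eq_smul_one, Algebra.algebraMap_eq_smul_one, TensorProduct.smul_tmul]
    | add x y _ _ hx hy => rw [TensorProduct.tmul_add]; exact add_mem hx hy
    | mul x y _ _ hx hy =>
      have h6 : (1 : E) ⊗ₜ[B] (x * y) = ((1 : E) ⊗ₜ[B] x) * ((1 : E) ⊗ₜ[B] y) := by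
        rw [Algebra.TensorProduct.tmul_mul_tmul, mul_one]
      rw [h6]; exact mul_mem hx hy
  intro z
  change z ∈ (algebraMap E (E ⊗[B] A)).range
  induction z using TensorProduct.induction_on with
  | zero => exact zero_mem _
  | add x y hx hy => exact add_mem hx hy
  | tmul e a =>
    have h7 : e ⊗ₜ[B] a = algebraMap E (E ⊗[B] A) e * ((1 : E) ⊗ₜ[B] a) := by
      rw [Algebra.TensorProduct.algebraMap_apply, Algebra.algebraMap_self_apply,
        Algebra.TensorProduct.tmul_mul_tmul, mul_one, one_mul]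
    rw [h7]
    exact mul_mem ⟨e, rfl⟩ (hall a)

/-- A domain finite over an algebraically closed field is that field. -/
theorem surjective_of_finite (Ω R : Type u) [Field Ω] [IsAlgClosed Ω] [CommRing R] [IsDomain R] [Algebra Ω R]
    [Module.Finite Ω R] : Function.Surjective (algebraMap Ω R) :=
  (IsAlgClosed.algebraMap_bijective_of_isIntegral (k := Ω) (K := R)).2

end K142.GenBij
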