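import Mathlib
import Groth.Agent.FlatA.DimFin
import Groth.Agent.S0389

/-!
# Generic Noether normalization

Let `B` be a domain with fraction field `L` and `A` a `B`-algebra of finite type with `L ⊗[B] A ≠ 0`.  There is
`φ : B[x₁, …, x_m] → A`, with `m = dim (L ⊗[B] A)`, which after inverting one `g ≠ 0` in `B` is finite and injective,
universally.
-/

set_option autoImplicit false
set_option linter.style.haveILetI false
universe u
open TensorProduct

namespace K142.GenNoeth

section

variable {B A : Type u} [CommRing B] [IsDomain B] [CommRing A] [Algebra B A]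

/-- Clearing one denominator in `L ⊗ A`. -/
theorem exists_clear (L : Type u) [Field L] [Algebra B L] [IsFractionRing B L] (z : L ⊗[B] A) :
    ∃ (s : B) (a : A), s ≠ 0 ∧ algebraMap B L s • z = 1 ⊗ₜ a := by
  induction z using TensorProduct.induction_on with
  | zero => exact ⟨1, 0, one_ne_zero, by simp⟩
  | tmul l a =>
    obtain ⟨⟨b, s⟩, hs⟩ := IsLocalization.surj (nonZeroDivisors B) l
    refine ⟨s, b • a, nonZeroDivisors.ne_zero s.2, ?_⟩
    rw [TensorProduct.smul_tmul', smul_eq_mul, mul_comm]
    have hs' : l * algebraMap B L s = algebraMap B L b := hs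
    rw [hs', TensorProduct.tmul_smul, TensorProduct.smul_tmul', Algebra.smul_def, mul_one]
  | add x y hx hy =>
    obtain ⟨s, a, hs, h1⟩ := hx
    obtain ⟨t, b, ht, h2⟩ := hy
    refine ⟨s * t, t • a + s • b, mul_ne_zero hs ht, ?_⟩
    rw [smul_add, TensorProduct.tmul_add, map_mul]
    congr 1
    · rw [mul_comm, mul_smul, h1, TensorProduct.tmul_smul, TensorProduct.smul_tmul', TensorProduct.smul_tmul',
        smul_eq_mul, Algebra.smul_def]
    · rw [mul_smul, h2, TensorProduct.tmul_smul, TensorProduct.smul_tmul', TensorProduct.smul_tmul',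
        smul_eq_mul, Algebra.smul_def]

/-- Elements killed in `L ⊗ A` are torsion. -/
theorem exists_torsion (L : Type u) [Field L] [Algebra B L] [IsFractionRing B L] (a : A)
    (h : (1 : L) ⊗ₜ[B] a = 0) : ∃ s : B, s ≠ 0 ∧ s • a = 0 := by
  have h1 : algebraMap A (A ⊗[B] L) a = 0 := by
    have h2 := congrArg (Algebra.TensorProduct.comm B L A) h
    simpa using h2
  rw [IsLocalization.map_eq_zero_iff (Algebra.algebraMapSubmonoid A (nonZeroDivisors B)) (A ⊗[B] L)] at h1
  obtain ⟨⟨_, s, hs, rfl⟩, h3⟩ := h1
  exact ⟨s, nonZeroDivisors.ne_zero hs, by rw [Algebra.smul_def]; exact h3⟩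

end

/-- The universal map attached to `y`. -/
noncomputable def psi (B : Type u) {A : Type u} [CommRing B] [CommRing A] [Algebra B A] {m : ℕ} (y : Fin m → A)
    (E : Type u) [CommRing E] [Algebra B E] : MvPolynomial (Fin m) E →ₐ[E] E ⊗[B] A :=
  MvPolynomial.aeval (fun i => (1 : E) ⊗ₜ[B] y i)

section

variable {B A : Type u} [CommRing B] [CommRing A] [Algebra B A] {m : ℕ} (y : Fin m → A)

theorem psi_X (E : Type u) [CommRing E] [Algebra B E] (i : Fin m) :
    psi B y E (MvPolynomial.X i) = (1 : E) ⊗ₜ[B] y i := by
  simp [psi]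

theorem psi_eq (E E' : Type u) [CommRing E] [Algebra B E] [CommRing E'] [Algebra B E'] [Algebra E E']
    [IsScalarTower B E E'] :
    psi B y E' = ((Algebra.TensorProduct.cancelBaseChange B E E' E' A).toAlgHom.comp
      (Algebra.TensorProduct.map (AlgHom.id E' E') (psi B y E))).comp
        (MvPolynomial.algebraTensorAlgEquiv (σ := Fin m) E E').symm.toAlgHom := by
  apply MvPolynomial.algHom_ext
  intro i
  rw [psi_X]
  simp [psi_X]

theorem psi_injective_of (E E' : Type u) [CommRing E] [Algebra B E] [CommRing E'] [Algebra B E'] [Algebra E E']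
    [IsScalarTower B E E'] (h : Function.Injective ((psi B y E).toLinearMap.lTensor E')) :
    Function.Injective (psi B y E') := by
  rw [psi_eq y E E']
  exact (Algebra.TensorProduct.cancelBaseChange B E E' E' A).injective.comp
    (h.comp (MvPolynomial.algebraTensorAlgEquiv (σ := Fin m) E E').symm.injective)

theorem psi_map (E E' : Type u) [CommRing E] [Algebra B E] [CommRing E'] [Algebra B E'] [Algebra E E']
    [IsScalarTower B E E'] (p : MvPolynomial (Fin m) E) :
    psi B y E' (MvPolynomial.map (algebraMap E E') p) =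
      Algebra.TensorProduct.map (IsScalarTower.toAlgHom B E E') (AlgHom.id B A) (psi B y E p) := by
  induction p using MvPolynomial.induction_on with
  | C a => simp [psi]
  | add p q hp hq => simp [hp, hq]
  | mul_X p i hp => simp [hp, psi_X]

end

/-- Injectivity of a base change when the cokernel is generically flat. -/
theorem inj_of_flat {R N N' M : Type u} [CommRing R] [AddCommGroup N] [AddCommGroup N'] [AddCommGroup M]
    [Module R N] [Module R N'] [Module R M] (u : N →ₗ[R] N') (hu : Function.Injective u)
    (π : N' →ₗ[R] M) (hπ : Function.Surjective π) (H : Function.Exact u π) (f : R)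
    (hM : Module.Flat (Localization.Away f) (Localization.Away f ⊗[R] M)) (E : Type u) [CommRing E] [Algebra R E]
    (hE : IsUnit (algebraMap R E f)) : Function.Injective (u.lTensor E) := by
  letI : Algebra (Localization.Away f) E := (IsLocalization.Away.lift f hE).toAlgebra
  haveI : IsScalarTower R (Localization.Away f) E :=
    .of_algebraMap_eq fun x => (IsLocalization.Away.lift_eq f hE x).symm
  have : Module.Flat R (Localization.Away f) := IsLocalization.flat _ (Submonoid.powers f)
  have h1 : Function.Injective (u.baseChange (Localization.Away f)) :=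
    Module.Flat.lTensor_preserves_injective_linearMap (M := Localization.Away f) u hu
  have h2 : Function.Surjective (π.baseChange (Localization.Away f)) := LinearMap.lTensor_surjective _ hπ
  have h3 : Function.Exact (u.baseChange (Localization.Away f)) (π.baseChange (Localization.Away f)) :=
    lTensor_exact (Localization.Away f) H hπ
  have h4 := LinearMap.lTensor_injective_of_exact_of_flat _ h2 _ h1 h3 E
  let eN := TensorProduct.AlgebraTensorModule.cancelBaseChange R (Localization.Away f) (Localization.Away f) E N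
  let eN' := TensorProduct.AlgebraTensorModule.cancelBaseChange R (Localization.Away f) (Localization.Away f) E N'
  have h5 : ∀ z, eN' ((u.baseChange (Localization.Away f)).lTensor E z) = u.lTensor E (eN z) := by
    intro z
    induction z using TensorProduct.induction_on with
    | zero => simp
    | add a b ha hb => rw [map_add, map_add, map_add, map_add, ha, hb]
    | tmul e n =>
      induction n using TensorProduct.induction_on with
      | zero => simp
      | add a b ha hb => rw [TensorProduct.tmul_add, map_add, map_add, map_add, map_add, ha, hb]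
      | tmul r n => simp [eN, eN']
  intro a b hab
  obtain ⟨a', rfl⟩ := eN.surjective a
  obtain ⟨b', rfl⟩ := eN.surjective b
  rw [← h5, ← h5] at hab
  rw [h4 (eN'.injective hab)]

/-- Passing from a principal localization of the base back to the base. -/
theorem exists_of_away {B : Type u} [CommRing B] [IsDomain B] (g : B) (hg : g ≠ 0)
    (Q : ∀ (E : Type u) [CommRing E] [Algebra B E], Prop)
    (h : ∃ f : Localization.Away g, f ≠ 0 ∧ ∀ (E : Type u) [CommRing E] [Algebra B E]
      [Algebra (Localization.Away g) E] [IsScalarTower B (Localization.Away g) E],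
      IsUnit (algebraMap (Localization.Away g) E f) → Q E) :
    ∃ g' : B, g' ≠ 0 ∧ g ∣ g' ∧ ∀ (E : Type u) [CommRing E] [Algebra B E], IsUnit (algebraMap B E g') → Q E := by
  obtain ⟨f, hf, hQ⟩ := h
  obtain ⟨n, b, hb⟩ := IsLocalization.Away.surj g f
  have hb0 : b ≠ 0 := by
    rintro rfl
    rw [map_zero] at hb
    have : IsDomain (Localization.Away g) :=
      IsLocalization.isDomain_localization (powers_le_nonZeroDivisors_of_noZeroDivisors hg)
    have hinj : (algebraMap B (Localization.Away g) g) ^ n ≠ 0 :=
      ((IsLocalization.Away.algebraMap_isUnit g).pow n).ne_zero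
    exact (mul_ne_zero hf hinj) hb
  refine ⟨g * b, mul_ne_zero hg hb0, dvd_mul_right _ _, fun E _ _ hE => ?_⟩
  rw [map_mul] at hE
  have hEg : IsUnit (algebraMap B E g) := isUnit_of_mul_isUnit_left hE
  have hEb : IsUnit (algebraMap B E b) := isUnit_of_mul_isUnit_right hE
  letI : Algebra (Localization.Away g) E := (IsLocalization.Away.lift g hEg).toAlgebra
  haveI : IsScalarTower B (Localization.Away g) E :=
    .of_algebraMap_eq fun x => (IsLocalization.Away.lift_eq g hEg x).symm
  refine hQ E ?_
  have h1 := congrArg (algebraMap (Localization.Away g) E) hb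
  rw [map_mul, ← IsScalarTower.algebraMap_apply] at h1
  rw [← h1] at hEb
  exact isUnit_of_mul_isUnit_left hEb

attribute [local instance] Algebra.TensorProduct.rightAlgebra MvPolynomial.algebraMvPolynomial in
/-- Integrality descends from the generic fibre after multiplying by a nonzero element of the base. -/
theorem exists_integral {B A : Type u} [CommRing B] [IsDomain B] [CommRing A] [Algebra B A]
    (L : Type u) [Field L] [Algebra B L] [IsFractionRing B L] {m : ℕ} (y : Fin m → A) (a : A)
    (h : (psi B y L).toRingHom.IsIntegralElem ((1 : L) ⊗ₜ[B] a)) :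
    ∃ b : B, b ≠ 0 ∧ (MvPolynomial.aeval (R := B) y).toRingHom.IsIntegralElem (b • a) := by
  letI a1 : Algebra (MvPolynomial (Fin m) B) A := (MvPolynomial.aeval (R := B) y).toRingHom.toAlgebra
  letI a2 : Algebra (MvPolynomial (Fin m) L) (L ⊗[B] A) := (psi B y L).toRingHom.toAlgebra
  letI a3 : Algebra (MvPolynomial (Fin m) B) (L ⊗[B] A) :=
    ((psi B y L).toRingHom.comp (MvPolynomial.map (algebraMap B L))).toAlgebra
  haveI t1 : IsScalarTower (MvPolynomial (Fin m) B) (MvPolynomial (Fin m) L) (L ⊗[B] A) :=
    .of_algebraMap_eq fun _ => rfl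
  haveI t2 : IsScalarTower (MvPolynomial (Fin m) B) A (L ⊗[B] A) := .of_algebraMap_eq fun p => by
    change psi B y L (MvPolynomial.map (algebraMap B L) p) = (1 : L) ⊗ₜ[B] (MvPolynomial.aeval (R := B) y p)
    induction p using MvPolynomial.induction_on with
    | C b =>
      simp only [psi, MvPolynomial.map_C, MvPolynomial.algHom_C]
      rw [Algebra.TensorProduct.algebraMap_apply, Algebra.algebraMap_self_apply,
        Algebra.algebraMap_eq_smul_one b, Algebra.algebraMap_eq_smul_one b, TensorProduct.smul_tmul]
    | add p q hp hq => simp only [map_add, hp, hq, TensorProduct.tmul_add]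
    | mul_X p i hp =>
      simp only [map_mul, hp, MvPolynomial.map_X, psi_X, MvPolynomial.aeval_X,
        Algebra.TensorProduct.tmul_mul_tmul, mul_one]
  have h1 : IsIntegral (MvPolynomial (Fin m) L) ((1 : L) ⊗ₜ[B] a) := h
  obtain ⟨⟨_, c, hc, rfl⟩, hci⟩ := IsIntegral.exists_multiple_integral_of_isLocalization
    ((nonZeroDivisors B).map (MvPolynomial.C (σ := Fin m))) (Rₘ := MvPolynomial (Fin m) L) _ h1
  have h2 : IsIntegral (MvPolynomial (Fin m) B) (algebraMap A (L ⊗[B] A) (c • a)) := by
    have h3 : algebraMap A (L ⊗[B] A) (c • a) = (MvPolynomial.C c : MvPolynomial (Fin m) B) • ((1 : L) ⊗ₜ[B] a) := by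
      have h4 : algebraMap A (L ⊗[B] A) a = (1 : L) ⊗ₜ[B] a := rfl
      have h5 : c • a = (MvPolynomial.C c : MvPolynomial (Fin m) B) • a := by
        rw [Algebra.smul_def, Algebra.smul_def]
        congr 1
        change _ = MvPolynomial.aeval (R := B) y (MvPolynomial.C c)
        rw [MvPolynomial.algHom_C]
      rw [h5, Algebra.smul_def, map_mul, h4, ← IsScalarTower.algebraMap_apply, Algebra.smul_def]
    rw [h3]
    exact hci
  have hloc : IsLocalization (Algebra.algebraMapSubmonoid A ((nonZeroDivisors B).map
      (MvPolynomial.C (σ := Fin m)))) (L ⊗[B] A) := by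
    have h6 : Algebra.algebraMapSubmonoid A ((nonZeroDivisors B).map (MvPolynomial.C (σ := Fin m))) =
        Algebra.algebraMapSubmonoid A (nonZeroDivisors B) := by
      ext z
      constructor
      · rintro ⟨_, ⟨c, hc, rfl⟩, rfl⟩
        refine ⟨c, hc, ?_⟩
        change _ = MvPolynomial.aeval (R := B) y (MvPolynomial.C c)
        rw [MvPolynomial.algHom_C]
      · rintro ⟨c, hc, rfl⟩
        refine ⟨_, ⟨c, hc, rfl⟩, ?_⟩
        change MvPolynomial.aeval (R := B) y (MvPolynomial.C c) = _
        rw [MvPolynomial.algHom_C]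
    rw [h6]
    exact IsLocalization.tensorRight L (nonZeroDivisors B)
  obtain ⟨_, ⟨d, hd, rfl⟩, hdi⟩ := IsLocalization.exists_isIntegral_smul_of_isIntegral_map
    ((nonZeroDivisors B).map (MvPolynomial.C (σ := Fin m))) (Sₘ := L ⊗[B] A) h2
  refine ⟨d * c, mul_ne_zero (nonZeroDivisors.ne_zero hd) (nonZeroDivisors.ne_zero hc), ?_⟩
  have h7 : (d * c) • a = (MvPolynomial.C d : MvPolynomial (Fin m) B) • (c • a) := by
    rw [mul_smul, Algebra.smul_def, Algebra.smul_def (MvPolynomial.C d)]
    congr 1
    change _ = MvPolynomial.aeval (R := B) y (MvPolynomial.C d)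
    rw [MvPolynomial.algHom_C]
  rw [h7]
  exact hdi

/-- Finiteness of the universal map. -/
theorem exists_finite {B A : Type u} [CommRing B] [IsDomain B] [CommRing A] [Algebra B A] [Algebra.FiniteType B A]
    (L : Type u) [Field L] [Algebra B L] [IsFractionRing B L] {m : ℕ} (y : Fin m → A)
    (h : (psi B y L).toRingHom.Finite) :
    ∃ b : B, b ≠ 0 ∧ ∀ (E : Type u) [CommRing E] [Algebra B E], IsUnit (algebraMap B E b) →
      (psi B y E).toRingHom.Finite := by
  classical
  obtain ⟨t, ht⟩ := (inferInstance : Algebra.FiniteType B A).out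
  have hint : ∀ a : A, ∃ b : B, b ≠ 0 ∧ (MvPolynomial.aeval (R := B) y).toRingHom.IsIntegralElem (b • a) :=
    fun a => exists_integral L y a (h.to_isIntegral _)
  choose b hb0 hb using hint
  refine ⟨∏ a ∈ t, b a, Finset.prod_ne_zero_iff.2 fun a _ => hb0 a, fun E _ _ hE => ?_⟩
  have hu : ∀ a ∈ t, IsUnit (algebraMap B E (b a)) := fun a ha =>
    isUnit_of_dvd_unit (map_dvd _ (Finset.dvd_prod_of_mem b ha)) hE
  letI a2 : Algebra (MvPolynomial (Fin m) E) (E ⊗[B] A) := (psi B y E).toRingHom.toAlgebra
  haveI t1 : IsScalarTower E (MvPolynomial (Fin m) E) (E ⊗[B] A) := .of_algebraMap_eq fun x => by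
    change _ = psi B y E (MvPolynomial.C x)
    rw [MvPolynomial.algHom_C]
  have hgen : ∀ a ∈ t, IsIntegral (MvPolynomial (Fin m) E) ((1 : E) ⊗ₜ[B] a) := by
    intro a ha
    have h1 : IsIntegral (MvPolynomial (Fin m) E) ((1 : E) ⊗ₜ[B] (b a • a)) := by
      obtain ⟨p, hp, hp0⟩ := hb a
      refine ⟨p.map (MvPolynomial.map (algebraMap B E)), hp.map _, ?_⟩
      rw [Polynomial.eval₂_map]
      have h2 : (algebraMap (MvPolynomial (Fin m) E) (E ⊗[B] A)).comp (MvPolynomial.map (algebraMap B E)) =
          (Algebra.TensorProduct.includeRight : A →ₐ[B] E ⊗[B] A).toRingHom.comp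
            (MvPolynomial.aeval (R := B) y).toRingHom := by
        apply MvPolynomial.ringHom_ext
        · intro r
          change psi B y E (MvPolynomial.map (algebraMap B E) (MvPolynomial.C r)) =
            (1 : E) ⊗ₜ[B] (MvPolynomial.aeval (R := B) y (MvPolynomial.C r))
          simp only [psi, MvPolynomial.map_C, MvPolynomial.algHom_C]
          rw [Algebra.TensorProduct.algebraMap_apply, Algebra.algebraMap_self_apply,
            Algebra.algebraMap_eq_smul_one r, Algebra.algebraMap_eq_smul_one r, TensorProduct.smul_tmul]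
        · intro i
          change psi B y E (MvPolynomial.map (algebraMap B E) (MvPolynomial.X i)) =
            (1 : E) ⊗ₜ[B] (MvPolynomial.aeval (R := B) y (MvPolynomial.X i))
          simp only [MvPolynomial.map_X, psi_X, MvPolynomial.aeval_X]
      rw [h2]
      have h3 := congrArg (Algebra.TensorProduct.includeRight : A →ₐ[B] E ⊗[B] A).toRingHom hp0
      rw [Polynomial.hom_eval₂, map_zero] at h3
      exact h3
    obtain ⟨v, hv⟩ := (hu a ha).exists_left_inv
    have h4 : (1 : E) ⊗ₜ[B] a = algebraMap E (E ⊗[B] A) v * ((1 : E) ⊗ₜ[B] (b a • a)) := by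
      rw [Algebra.TensorProduct.algebraMap_apply, Algebra.algebraMap_self_apply,
        Algebra.TensorProduct.tmul_mul_tmul, one_mul, mul_one, TensorProduct.tmul_smul,
        TensorProduct.smul_tmul', Algebra.smul_def, mul_comm, hv]
    rw [h4, IsScalarTower.algebraMap_apply E (MvPolynomial (Fin m) E) (E ⊗[B] A)]
    exact (isIntegral_algebraMap).mul h1
  have hall : ∀ a : A, IsIntegral (MvPolynomial (Fin m) E) ((1 : E) ⊗ₜ[B] a) := by
    intro a
    have ha : a ∈ Algebra.adjoin B (t : Set A) := by rw [ht]; trivial
    induction ha using Algebra.adjoin_induction with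
    | mem x hx => exact hgen x hx
    | algebraMap r =>
      have h5 : (1 : E) ⊗ₜ[B] (algebraMap B A r) = algebraMap (MvPolynomial (Fin m) E) (E ⊗[B] A)
          (algebraMap E (MvPolynomial (Fin m) E) (algebraMap B E r)) := by
        rw [← IsScalarTower.algebraMap_apply, Algebra.TensorProduct.algebraMap_apply,
          Algebra.algebraMap_self_apply, Algebra.algebraMap_eq_smul_one r,
          Algebra.algebraMap_eq_smul_one r, TensorProduct.smul_tmul]
      rw [h5]
      exact isIntegral_algebraMap
    | add x y _ _ hx hy => rw [TensorProduct.tmul_add]; exact hx.add hy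
    | mul x y _ _ hx hy =>
      have h6 : (1 : E) ⊗ₜ[B] (x * y) = ((1 : E) ⊗ₜ[B] x) * ((1 : E) ⊗ₜ[B] y) := by
        rw [Algebra.TensorProduct.tmul_mul_tmul, mul_one]
      rw [h6]; exact hx.mul hy
  have hInt : Algebra.IsIntegral (MvPolynomial (Fin m) E) (E ⊗[B] A) := ⟨fun z => by
    induction z using TensorProduct.induction_on with
    | zero => exact isIntegral_zero
    | add x y hx hy => exact hx.add hy
    | tmul e a =>
      have h7 : e ⊗ₜ[B] a = algebraMap (MvPolynomial (Fin m) E) (E ⊗[B] A)
          (algebraMap E (MvPolynomial (Fin m) E) e) * ((1 : E) ⊗ₜ[B] a) := by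
        rw [← IsScalarTower.algebraMap_apply, Algebra.TensorProduct.algebraMap_apply,
          Algebra.algebraMap_self_apply, Algebra.TensorProduct.tmul_mul_tmul, mul_one, one_mul]
      rw [h7]
      exact (isIntegral_algebraMap).mul (hall a)⟩
  have hft : Algebra.FiniteType (MvPolynomial (Fin m) E) (E ⊗[B] A) :=
    Algebra.FiniteType.of_restrictScalars_finiteType E (MvPolynomial (Fin m) E) (E ⊗[B] A)
  exact Algebra.IsIntegral.finite

/-- Universal injectivity over a base which is already small enough. -/
theorem exists_injective {B A : Type u} [CommRing B] [IsDomain B] [CommRing A] [Algebra B A]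
    {m : ℕ} (y : Fin m → A) (hfin : (psi B y B).toRingHom.Finite) (hinj : Function.Injective (psi B y B)) :
    ∃ b : B, b ≠ 0 ∧ ∀ (E : Type u) [CommRing E] [Algebra B E], IsUnit (algebraMap B E b) →
      Function.Injective (psi B y E) := by
  letI a2 : Algebra (MvPolynomial (Fin m) B) (B ⊗[B] A) := (psi B y B).toRingHom.toAlgebra
  haveI t1 : IsScalarTower B (MvPolynomial (Fin m) B) (B ⊗[B] A) := .of_algebraMap_eq fun x => by
    change _ = psi B y B (MvPolynomial.C x)
    rw [MvPolynomial.algHom_C]
  haveI : Module.Finite (MvPolynomial (Fin m) B) (B ⊗[B] A) := hfin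
  let I : Submodule (MvPolynomial (Fin m) B) (B ⊗[B] A) :=
    LinearMap.range (Algebra.linearMap (MvPolynomial (Fin m) B) (B ⊗[B] A))
  obtain ⟨f, hf, hM, -⟩ := Groth.Agent.S0389.result (R := B) (S := MvPolynomial (Fin m) B) (M := (B ⊗[B] A) ⧸ I)
  refine ⟨f, hf, fun E _ _ hE => psi_injective_of y B E ?_⟩
  refine inj_of_flat (psi B y B).toLinearMap hinj (I.mkQ.restrictScalars B) (Submodule.mkQ_surjective I) ?_ f
    inferInstance E hE
  intro z
  change I.mkQ z = 0 ↔ _
  rw [Submodule.mkQ_apply, Submodule.Quotient.mk_eq_zero]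
  rfl


theorem psi_cancel {B A : Type u} [CommRing B] [CommRing A] [Algebra B A] {m : ℕ} (y : Fin m → A)
    (B1 E : Type u) [CommRing B1] [Algebra B B1] [CommRing E] [Algebra B E] [Algebra B1 E]
    [IsScalarTower B B1 E] :
    psi B y E = (Algebra.TensorProduct.cancelBaseChange B B1 E E A).toAlgHom.comp
      (psi B1 (fun i => (1 : B1) ⊗ₜ[B] y i) E) := by
  apply MvPolynomial.algHom_ext
  intro i
  rw [psi_X, AlgHom.comp_apply, psi_X]
  simp


/-- Generic Noether normalization. -/
theorem exists_noether {B A : Type u} [CommRing B] [IsDomain B] [CommRing A] [Algebra B A] [Algebra.FiniteType B A]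
    (L : Type u) [Field L] [Algebra B L] [IsFractionRing B L] [Nontrivial (L ⊗[B] A)] :
    ∃ (m : ℕ) (y : Fin m → A) (g : B), g ≠ 0 ∧ ringKrullDim (L ⊗[B] A) = m ∧
      ∀ (E : Type u) [CommRing E] [Algebra B E], IsUnit (algebraMap B E g) →
        Function.Injective (psi B y E) ∧ (psi B y E).toRingHom.Finite := by
  classical
  obtain ⟨m, G, hG1, hG2, hm⟩ := Groth.Agent.FlatA.DimFin.exists_noether L (L ⊗[B] A)
  choose s y hs hsy using fun i => exists_clear L (G (MvPolynomial.X i))
  have hs' : ∀ i, algebraMap B L (s i) ≠ 0 := fun i =>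
    fun h => hs i ((IsFractionRing.injective B L) (by rw [h, map_zero]))
  -- the scaling automorphism
  let σ : MvPolynomial (Fin m) L →ₐ[L] MvPolynomial (Fin m) L :=
    MvPolynomial.aeval fun i => MvPolynomial.C (algebraMap B L (s i)) * MvPolynomial.X i
  let τ : MvPolynomial (Fin m) L →ₐ[L] MvPolynomial (Fin m) L :=
    MvPolynomial.aeval fun i => MvPolynomial.C (algebraMap B L (s i))⁻¹ * MvPolynomial.X i
  have hστ : σ.comp τ = AlgHom.id L _ := by
    apply MvPolynomial.algHom_ext
    intro i
    simp only [AlgHom.comp_apply, σ, τ, MvPolynomial.aeval_X, map_mul, MvPolynomial.algHom_C,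
      MvPolynomial.algebraMap_eq, AlgHom.id_apply]
    rw [← mul_assoc, ← map_mul, inv_mul_cancel₀ (hs' i), map_one, one_mul]
  have hτσ : τ.comp σ = AlgHom.id L _ := by
    apply MvPolynomial.algHom_ext
    intro i
    simp only [AlgHom.comp_apply, σ, τ, MvPolynomial.aeval_X, map_mul, MvPolynomial.algHom_C,
      MvPolynomial.algebraMap_eq, AlgHom.id_apply]
    rw [← mul_assoc, ← map_mul, mul_inv_cancel₀ (hs' i), map_one, one_mul]
  let σe : MvPolynomial (Fin m) L ≃ₐ[L] MvPolynomial (Fin m) L := AlgEquiv.ofAlgHom σ τ hστ hτσ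
  have hpsi : psi B y L = G.comp σe.toAlgHom := by
    apply MvPolynomial.algHom_ext
    intro i
    rw [psi_X, ← hsy i]
    change _ = G (σ (MvPolynomial.X i))
    simp only [σ, MvPolynomial.aeval_X, map_mul, MvPolynomial.algHom_C]
    rw [← Algebra.smul_def]
  have hinjL : Function.Injective (psi B y L) := by
    rw [hpsi]
    exact hG1.comp σe.injective
  have hfinL : (psi B y L).toRingHom.Finite := by
    rw [hpsi]
    exact RingHom.Finite.comp (g := G.toRingHom) (f := σe.toAlgHom.toRingHom) hG2
      (RingHom.Finite.of_surjective _ σe.surjective)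
  obtain ⟨b1, hb1, hfin⟩ := exists_finite L y hfinL
  have hu1 : IsUnit (algebraMap B (Localization.Away b1) b1) := IsLocalization.Away.algebraMap_isUnit b1
  have hbL : IsUnit (algebraMap B L b1) :=
    isUnit_iff_ne_zero.2 fun h => hb1 ((IsFractionRing.injective B L) (by rw [h, map_zero]))
  letI : Algebra (Localization.Away b1) L := (IsLocalization.Away.lift b1 hbL).toAlgebra
  haveI : IsScalarTower B (Localization.Away b1) L :=
    .of_algebraMap_eq fun x => (IsLocalization.Away.lift_eq b1 hbL x).symm
  have hinj1L : Function.Injective (algebraMap (Localization.Away b1) L) := by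
    rw [IsLocalization.injective_iff_map_algebraMap_eq (Submonoid.powers b1)]
    intro x z
    rw [← IsScalarTower.algebraMap_apply, ← IsScalarTower.algebraMap_apply,
      (IsFractionRing.injective B L).eq_iff, (IsLocalization.injective (Localization.Away b1)
        (powers_le_nonZeroDivisors_of_noZeroDivisors hb1)).eq_iff]
  have hinj1 : Function.Injective (psi B y (Localization.Away b1)) := by
    intro p q hpq
    apply MvPolynomial.map_injective _ hinj1L
    apply hinjL
    rw [psi_map, psi_map, hpq]
  haveI : IsDomain (Localization.Away b1) :=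
    IsLocalization.isDomain_localization (powers_le_nonZeroDivisors_of_noZeroDivisors hb1)
  have hc := psi_cancel (B := B) (A := A) y (Localization.Away b1) (Localization.Away b1)
  have hc' : psi (Localization.Away b1) (fun i => (1 : Localization.Away b1) ⊗ₜ[B] y i) (Localization.Away b1) =
      (Algebra.TensorProduct.cancelBaseChange B (Localization.Away b1) (Localization.Away b1)
        (Localization.Away b1) A).symm.toAlgHom.comp (psi B y (Localization.Away b1)) := by
    rw [hc]
    ext x
    simp
  obtain ⟨g, hg, hdvd, hQ⟩ := exists_of_away b1 hb1 (fun E _ _ => Function.Injective (psi B y E)) (by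
    obtain ⟨f, hf, h1⟩ := exists_injective (B := Localization.Away b1) (A := Localization.Away b1 ⊗[B] A)
      (fun i => (1 : Localization.Away b1) ⊗ₜ[B] y i) (by
        rw [hc']
        exact RingHom.Finite.comp (RingHom.Finite.of_surjective _ (AlgEquiv.surjective _)) (hfin _ hu1)) (by
        rw [hc']
        exact (Algebra.TensorProduct.cancelBaseChange B (Localization.Away b1) (Localization.Away b1)
          (Localization.Away b1) A).symm.injective.comp hinj1)
    refine ⟨f, hf, fun E _ _ _ _ hE => ?_⟩
    rw [psi_cancel y (Localization.Away b1) E]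
    exact (Algebra.TensorProduct.cancelBaseChange B (Localization.Away b1) E E A).injective.comp (h1 E hE))
  exact ⟨m, y, g, hg, hm, fun E _ _ hE => ⟨hQ E hE, hfin E (isUnit_of_dvd_unit (map_dvd _ hdvd) hE)⟩⟩

end K142.GenNoeth
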