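import Mathlib
import Groth.Agent.S10862
import Groth.Agent.EtAcyc.K142.GenNoeth

/-!
# Normalizations of the components and generic joint surjectivity
-/

set_option autoImplicit false
set_option linter.style.haveILetI false
universe u
open TensorProduct CategoryTheory CategoryTheory.Limits AlgebraicGeometry

namespace K142.GenCover

/-- The normalizations of the irreducible components of an algebra of finite type over a field. -/
theorem exists_normalizations (Ω R : Type u) [Field Ω] [CommRing R] [Algebra Ω R] [Algebra.FiniteType Ω R] :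
    ∃ (n : ℕ) (N : Fin n → Type u) (_ : ∀ j, CommRing (N j)) (_ : ∀ j, Algebra R (N j)),
      (∀ j, Module.Finite R (N j)) ∧ (∀ j, IsDomain (N j)) ∧ (∀ j, IsIntegrallyClosed (N j)) ∧
      ∀ x : R, (∀ j, algebraMap R (N j) x = 0) → IsNilpotent x := by
  classical
  have : IsNoetherianRing R := Algebra.FiniteType.isNoetherianRing Ω R
  have hfin : (minimalPrimes R).Finite := minimalPrimes.finite_of_isNoetherianRing R
  have hprime : ∀ P : minimalPrimes R, P.1.IsPrime := fun P => P.2.1.1
  let ind : Fintype (minimalPrimes R) := hfin.fintype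
  let e : minimalPrimes R ≃ Fin (Fintype.card (minimalPrimes R)) := Fintype.equivFin _
  let F : minimalPrimes R → Type u := fun P => FractionRing (R ⧸ P.1)
  letI i0 : ∀ P : minimalPrimes R, CommRing (F P) := fun P => inferInstanceAs (CommRing (FractionRing (R ⧸ P.1)))
  letI i1 : ∀ P : minimalPrimes R, Algebra (R ⧸ P.1) (F P) := fun P =>
    inferInstanceAs (Algebra (R ⧸ P.1) (FractionRing (R ⧸ P.1)))
  have hf : ∀ P : minimalPrimes R, IsFractionRing (R ⧸ P.1) (F P) := fun P =>
    inferInstanceAs (IsFractionRing (R ⧸ P.1) (FractionRing (R ⧸ P.1)))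
  let N : minimalPrimes R → Type u := fun P => integralClosure (R ⧸ P.1) (F P)
  letI i2 : ∀ P : minimalPrimes R, CommRing (N P) := fun P =>
    inferInstanceAs (CommRing (integralClosure (R ⧸ P.1) (F P)))
  letI i3 : ∀ P : minimalPrimes R, Algebra (R ⧸ P.1) (N P) := fun P =>
    inferInstanceAs (Algebra (R ⧸ P.1) (integralClosure (R ⧸ P.1) (F P)))
  letI i4 : ∀ P : minimalPrimes R, Algebra R (N P) := fun P =>
    ((algebraMap (R ⧸ P.1) (N P)).comp (algebraMap R (R ⧸ P.1))).toAlgebra
  have key : ∀ P : minimalPrimes R, Module.Finite R (N P) ∧ IsDomain (N P) ∧ IsIntegrallyClosed (N P) ∧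
      Function.Injective (algebraMap (R ⧸ P.1) (N P)) := by
    intro P
    have hP := hprime P
    have : IsDomain (R ⧸ P.1) := Ideal.Quotient.isDomain P.1
    letI : Field (F P) := inferInstanceAs (Field (FractionRing (R ⧸ P.1)))
    have h1 : Module.Finite (R ⧸ P.1) (N P) :=
      Groth.Agent.S10862.result Ω (R ⧸ P.1) (F P) (F P)
    haveI : IsScalarTower R (R ⧸ P.1) (N P) := .of_algebraMap_eq fun _ => rfl
    have h2 : Module.Finite R (N P) := Module.Finite.trans (R ⧸ P.1) (N P)
    have h3 : IsDomain (N P) := inferInstanceAs (IsDomain (integralClosure (R ⧸ P.1) (F P)))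
    have h4 : IsIntegrallyClosed (N P) :=
      integralClosure.isIntegrallyClosedOfFiniteExtension (R := R ⧸ P.1) (L := F P) (F P)
    have h5 : Function.Injective (algebraMap (R ⧸ P.1) (N P)) := by
      intro a b hab
      exact IsFractionRing.injective (R ⧸ P.1) (F P) (congrArg Subtype.val hab)
    exact ⟨h2, h3, h4, h5⟩
  refine ⟨Fintype.card (minimalPrimes R), fun j => N (e.symm j), fun j => i2 _, fun j => i4 _,
    fun j => (key _).1, fun j => (key _).2.1, fun j => (key _).2.2.1, fun x hx => ?_⟩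
  rw [← mem_nilradical, nilradical_eq_sInf, Ideal.mem_sInf]
  intro q hq
  have hq' : q.IsPrime := hq
  obtain ⟨P, hP, hle⟩ := Ideal.exists_minimalPrimes_le (I := (⊥ : Ideal R)) (J := q) bot_le
  apply hle
  obtain ⟨j, hj⟩ := e.symm.surjective ⟨P, hP⟩
  have h1 : algebraMap R (N (e.symm j)) x = 0 := hx j
  rw [hj] at h1
  have h2 : algebraMap (R ⧸ P) (N ⟨P, hP⟩) (algebraMap R (R ⧸ P) x) = 0 := h1
  rw [map_eq_zero_iff _ (key ⟨P, hP⟩).2.2.2] at h2
  exact Ideal.Quotient.eq_zero_iff_mem.1 h2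

/-- Primes of a tensor product over given primes. -/
theorem exists_prime_tensor (T S N : Type u) [CommRing T] [CommRing S] [CommRing N] [Algebra T S] [Algebra T N]
    (Q : PrimeSpectrum S) (q : PrimeSpectrum N)
    (h : PrimeSpectrum.comap (algebraMap T S) Q = PrimeSpectrum.comap (algebraMap T N) q) :
    ∃ z : PrimeSpectrum (S ⊗[T] N), PrimeSpectrum.comap (algebraMap S (S ⊗[T] N)) z = Q := by
  obtain ⟨z, hz, -⟩ := Scheme.Pullback.exists_preimage_pullback
    (f := Spec.map (CommRingCat.ofHom (algebraMap T S))) (g := Spec.map (CommRingCat.ofHom (algebraMap T N)))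
    Q q h
  refine ⟨(pullbackSpecIso T S N).hom z, ?_⟩
  rw [← hz]
  have h1 := pullbackSpecIso_hom_fst T S N
  change (Spec.map (CommRingCat.ofHom (algebraMap S (S ⊗[T] N)))) ((pullbackSpecIso T S N).hom z) = _
  rw [← h1]
  rfl

/-- Elements which die in the geometric generic fibre are torsion. -/
theorem exists_torsion_geom {B T : Type u} [CommRing B] [IsDomain B] [CommRing T] [Algebra B T] (Ω : Type u)
    [Field Ω] [Algebra B Ω] (hinj : Function.Injective (algebraMap B Ω)) (x : T)
    (h : (1 : Ω) ⊗ₜ[B] x = 0) : ∃ s : B, s ≠ 0 ∧ s • x = 0 := by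
  let L := FractionRing B
  letI : Algebra L Ω := (IsFractionRing.lift hinj).toAlgebra
  haveI : IsScalarTower B L Ω := .of_algebraMap_eq fun x => (IsFractionRing.lift_algebraMap hinj x).symm
  refine K142.GenNoeth.exists_torsion L x ?_
  have h1 : Function.Injective (Algebra.TensorProduct.includeRight : L ⊗[B] T →ₐ[L] Ω ⊗[L] (L ⊗[B] T)) :=
    Algebra.TensorProduct.includeRight_injective (algebraMap L Ω).injective
  apply h1
  apply (Algebra.TensorProduct.cancelBaseChange B L Ω Ω T).injective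
  rw [map_zero, map_zero]
  change Algebra.TensorProduct.cancelBaseChange B L Ω Ω T ((1 : Ω) ⊗ₜ[L] ((1 : L) ⊗ₜ[B] x)) = 0
  rw [Algebra.TensorProduct.cancelBaseChange_tmul, one_smul, h]

/-- A ring map out of `E ⊗[B] N` from compatible ring maps. -/
theorem exists_lift (B T N E K : Type u) [CommRing B] [CommRing T] [CommRing N] [CommRing E] [CommRing K]
    [Algebra B T] [Algebra B N] [Algebra T N] [IsScalarTower B T N] [Algebra B E]
    (α : E ⊗[B] T →+* K) (β : N →+* K) (h : ∀ t : T, α ((1 : E) ⊗ₜ[B] t) = β (algebraMap T N t)) :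
    ∃ φ : E ⊗[B] N →+* K, φ.comp (Algebra.TensorProduct.map (AlgHom.id E E)
      (IsScalarTower.toAlgHom B T N)).toRingHom = α := by
  letI a1 : Algebra B K := (α.comp (algebraMap B (E ⊗[B] T))).toAlgebra
  let u : E →ₐ[B] K :=
    { α.comp (algebraMap E (E ⊗[B] T)) with
      commutes' := fun b => by
        change α (algebraMap E (E ⊗[B] T) (algebraMap B E b)) = α (algebraMap B (E ⊗[B] T) b)
        rw [← IsScalarTower.algebraMap_apply B E (E ⊗[B] T)] }
  let v : N →ₐ[B] K :=
    { β with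
      commutes' := fun b => by
        change β (algebraMap B N b) = α (algebraMap B (E ⊗[B] T) b)
        rw [IsScalarTower.algebraMap_apply B T N, ← h]
        congr 1
        rw [Algebra.TensorProduct.algebraMap_apply, Algebra.algebraMap_eq_smul_one,
          Algebra.algebraMap_eq_smul_one, TensorProduct.smul_tmul] }
  let φ : E ⊗[B] N →ₐ[B] K := Algebra.TensorProduct.lift u v fun _ _ => Commute.all _ _
  refine ⟨φ.toRingHom, ?_⟩
  refine RingHom.ext fun x => ?_
  change φ (Algebra.TensorProduct.map (AlgHom.id E E) (IsScalarTower.toAlgHom B T N) x) = α x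
  induction x using TensorProduct.induction_on with
  | zero => simp
  | add x y hx hy => rw [map_add, map_add, hx, hy, map_add]
  | tmul e t =>
    have h1 : φ (Algebra.TensorProduct.map (AlgHom.id E E) (IsScalarTower.toAlgHom B T N) (e ⊗ₜ t)) =
        u e * v (algebraMap T N t) := rfl
    have h2 : v (algebraMap T N t) = α ((1 : E) ⊗ₜ[B] t) := (h t).symm
    have h3 : u e = α (e ⊗ₜ[B] (1 : T)) := rfl
    rw [h1, h2, h3, ← map_mul, Algebra.TensorProduct.tmul_mul_tmul, mul_one, one_mul]

/-- Generic joint surjectivity. -/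
theorem exists_cover {B T : Type u} [CommRing B] [IsDomain B] [CommRing T] [Algebra B T] [IsNoetherianRing T]
    (Ω : Type u) [Field Ω] [Algebra B Ω] (hinj : Function.Injective (algebraMap B Ω)) {n : ℕ}
    (NB : Fin n → Type u) [∀ j, CommRing (NB j)] [∀ j, Algebra T (NB j)] [∀ j, Module.Finite T (NB j)]
    [∀ j, Algebra B (NB j)] [∀ j, IsScalarTower B T (NB j)]
    (h : ∀ x : T, (∀ j, algebraMap T (NB j) x = 0) → IsNilpotent ((1 : Ω) ⊗ₜ[B] x)) :
    ∃ b : B, b ≠ 0 ∧ ∀ (E : Type u) [CommRing E] [Algebra B E], IsUnit (algebraMap B E b) →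
      ∀ Q : PrimeSpectrum (E ⊗[B] T), ∃ (j : Fin n) (Q' : PrimeSpectrum (E ⊗[B] NB j)),
        PrimeSpectrum.comap (Algebra.TensorProduct.map (AlgHom.id E E)
          (IsScalarTower.toAlgHom B T (NB j))).toRingHom Q' = Q := by
  classical
  let I : Ideal T := Finset.univ.inf fun j => RingHom.ker (algebraMap T (NB j))
  obtain ⟨S, hS⟩ := (IsNoetherian.noetherian I : I.FG)
  have hx : ∀ x : T, ∃ (s : B) (k : ℕ), s ≠ 0 ∧ (x ∈ S → s • x ^ k = 0) := by
    intro x
    by_cases hxS : x ∈ S
    · have hxI : x ∈ I := hS ▸ Submodule.subset_span hxS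
      obtain ⟨k, hk⟩ := h x (fun j => by
        have := (Finset.inf_le (Finset.mem_univ j) : I ≤ RingHom.ker (algebraMap T (NB j))) hxI
        exact this)
      rw [Algebra.TensorProduct.tmul_pow, one_pow] at hk
      obtain ⟨s, hs, hs'⟩ := exists_torsion_geom Ω hinj _ hk
      exact ⟨s, k, hs, fun _ => hs'⟩
    · exact ⟨1, 0, one_ne_zero, fun h => absurd h hxS⟩
  choose s k hs hk using hx
  refine ⟨∏ x ∈ S, s x, Finset.prod_ne_zero_iff.2 fun a _ => hs a, fun E _ _ hE Q => ?_⟩
  have hu : ∀ a ∈ S, IsUnit (algebraMap B E (s a)) := fun a ha =>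
    isUnit_of_dvd_unit (map_dvd _ (Finset.dvd_prod_of_mem s ha)) hE
  letI aT : Algebra T (E ⊗[B] T) := Algebra.TensorProduct.rightAlgebra
  let q : PrimeSpectrum T := PrimeSpectrum.comap (algebraMap T (E ⊗[B] T)) Q
  have hIq : I ≤ q.asIdeal := by
    rw [← hS, Submodule.span_le]
    intro x hx
    have h1 : ((1 : E) ⊗ₜ[B] x) ^ k x = 0 := by
      have h2 : algebraMap B E (s x) • (((1 : E) ⊗ₜ[B] x) ^ k x) = 0 := by
        rw [Algebra.TensorProduct.tmul_pow, one_pow, TensorProduct.smul_tmul', smul_eq_mul, mul_one,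
          Algebra.algebraMap_eq_smul_one, TensorProduct.smul_tmul, hk x hx, TensorProduct.tmul_zero]
      exact (hu x hx).smul_eq_zero.1 h2
    have h3 : ((1 : E) ⊗ₜ[B] x) ∈ Q.asIdeal := Q.isPrime.mem_of_pow_mem (k x) (by rw [h1]; exact Ideal.zero_mem _)
    exact h3
  obtain ⟨j, -, hj⟩ := (Ideal.IsPrime.inf_le' q.isPrime).1 hIq
  haveI : Algebra.IsIntegral T (NB j) := Algebra.IsIntegral.of_finite T (NB j)
  obtain ⟨q', -, hq'1, hq'2⟩ := Ideal.exists_ideal_over_prime_of_isIntegral (S := NB j) q.asIdeal ⊥ (by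
    rw [← RingHom.ker_eq_comap_bot]; exact hj)
  obtain ⟨z, hz⟩ := exists_prime_tensor T (E ⊗[B] T) (NB j) Q ⟨q', hq'1⟩ (PrimeSpectrum.ext hq'2.symm)
  obtain ⟨φ, hφ⟩ := exists_lift B T (NB j) E ((E ⊗[B] T) ⊗[T] NB j)
    (algebraMap (E ⊗[B] T) ((E ⊗[B] T) ⊗[T] NB j))
    (Algebra.TensorProduct.includeRight : NB j →ₐ[T] (E ⊗[B] T) ⊗[T] NB j).toRingHom (fun t => by
      change _ = (Algebra.TensorProduct.includeRight : NB j →ₐ[T] (E ⊗[B] T) ⊗[T] NB j) (algebraMap T (NB j) t)
      rw [AlgHom.commutes, IsScalarTower.algebraMap_apply T (E ⊗[B] T) ((E ⊗[B] T) ⊗[T] NB j)]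
      rfl)
  refine ⟨j, PrimeSpectrum.comap φ z, ?_⟩
  rw [← hz, ← hφ, PrimeSpectrum.comap_comp]
  rfl

end K142.GenCover
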