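import Groth.Agent.EtAcyc.K142.GenDesc

/-!
# Descent of a finite algebra over `Ω ⊗ C` to a small coefficient ring

Let `Ω` and `C` be `D`-algebras and `N` a finite algebra over the Noetherian ring `T = Ω ⊗[D] C`.  There is a finite
set `s ⊆ T` such that for every `D`-algebra `B → Ω` with `s` in the image of `B ⊗[D] C`, the algebra `N` has a form
`NB` over `B`, finite over `B ⊗[D] C`, contained in `N` and containing a given finite set `F ⊆ N`.
-/

set_option autoImplicit false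
set_option linter.style.haveILetI false
universe u
open TensorProduct

namespace K142.Gen

section desc

theorem exists_form2 {D Ω C : Type u} [CommRing D] [CommRing Ω] [Algebra D Ω] [CommRing C] [Algebra D C]
    (N : Type u) [CommRing N] [Algebra (Ω ⊗[D] C) N] [Module.Finite (Ω ⊗[D] C) N] [IsNoetherianRing (Ω ⊗[D] C)]
    (F : Finset N) :
    ∃ s : Finset (Ω ⊗[D] C), ∀ (B : Type u) [CommRing B] [Algebra D B] [Algebra B Ω] [IsScalarTower D B Ω],
      (∀ x ∈ s, x ∈ (bcMap D Ω C B).range) →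
      ∃ (NB : Type u) (_ : CommRing NB) (_ : Algebra (B ⊗[D] C) NB) (_ : Algebra B NB)
        (_ : IsScalarTower B (B ⊗[D] C) NB) (ι : NB →+* N) (e : Ω ⊗[B] NB →+* N),
        Function.Injective ι ∧
        (∀ x : B ⊗[D] C, ι (algebraMap (B ⊗[D] C) NB x) = algebraMap (Ω ⊗[D] C) N (bcMap D Ω C B x)) ∧
        Module.Finite (B ⊗[D] C) NB ∧
        (∀ (ω : Ω) (n : NB), e (ω ⊗ₜ n) = algebraMap (Ω ⊗[D] C) N (ω ⊗ₜ 1) * ι n) ∧
        Function.Bijective e ∧ ∀ z ∈ F, ∃ n : NB, ι n = z := by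
  classical
  obtain ⟨k, y, hy⟩ := Module.Finite.exists_fin (R := Ω ⊗[D] C) (M := N)
  let f : (Fin k → Ω ⊗[D] C) →ₗ[Ω ⊗[D] C] N := Fintype.linearCombination (Ω ⊗[D] C) y
  have hf : Function.Surjective f := by
    rw [← LinearMap.range_eq_top, Fintype.range_linearCombination, hy]
  choose c hc using hf
  obtain ⟨R, hR⟩ := (IsNoetherian.noetherian (LinearMap.ker f) : (LinearMap.ker f).FG)
  let s : Finset (Ω ⊗[D] C) :=
    (Finset.univ.image fun ijl : Fin k × Fin k × Fin k => c (y ijl.1 * y ijl.2.1) ijl.2.2) ∪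
      (Finset.univ.image fun l => c 1 l) ∪ R.biUnion (fun ρ => Finset.univ.image ρ) ∪
      F.biUnion (fun z => Finset.univ.image (c z))
  refine ⟨s, ?_⟩
  intro B _ _ _ _ hs
  let TB : Subalgebra D (Ω ⊗[D] C) := (bcMap D Ω C B).range
  have hfv : ∀ v : Fin k → Ω ⊗[D] C, f v = ∑ l, v l • y l := fun v => Fintype.linearCombination_apply _ _ _
  let P : Submodule TB N := Submodule.span TB (Set.range y)
  have hmem : ∀ v : Fin k → Ω ⊗[D] C, (∀ l, v l ∈ TB) → f v ∈ P := by
    intro v hv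
    rw [hfv]
    exact Submodule.sum_mem _ fun l _ =>
      Submodule.smul_mem P (⟨v l, hv l⟩ : TB) (Submodule.subset_span ⟨l, rfl⟩)
  have h1P : (1 : N) ∈ P := by
    rw [← hc 1]
    exact hmem _ fun l => hs _ (Finset.mem_union_left _ (Finset.mem_union_left _ (Finset.mem_union_right _
      (Finset.mem_image.2 ⟨l, Finset.mem_univ _, rfl⟩))))
  have hmul : P * P ≤ P := by
    rw [Submodule.span_mul_span, Submodule.span_le]
    rintro _ ⟨_, ⟨i, rfl⟩, _, ⟨j, rfl⟩, rfl⟩
    change y i * y j ∈ P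
    rw [← hc (y i * y j)]
    exact hmem _ fun l => hs _ (Finset.mem_union_left _ (Finset.mem_union_left _ (Finset.mem_union_left _
      (Finset.mem_image.2 ⟨(i, j, l), Finset.mem_univ _, rfl⟩))))
  have hFP : ∀ z ∈ F, z ∈ P := by
    intro z hz
    rw [← hc z]
    exact hmem _ fun l => hs _ (Finset.mem_union_right _ (Finset.mem_biUnion.2 ⟨z, hz,
      Finset.mem_image.2 ⟨l, Finset.mem_univ _, rfl⟩⟩))
  let NBs : Subalgebra TB N := P.toSubalgebra h1P fun a b ha hb => hmul (Submodule.mul_mem_mul ha hb)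
  let toTB : B ⊗[D] C →ₐ[D] TB := (bcMap D Ω C B).rangeRestrict
  have htoTB : Function.Surjective toTB := (bcMap D Ω C B).rangeRestrict_surjective
  letI aBC : Algebra (B ⊗[D] C) NBs := ((algebraMap TB NBs).comp toTB.toRingHom).toAlgebra
  letI aB : Algebra B NBs := ((algebraMap (B ⊗[D] C) NBs).comp
    (Algebra.TensorProduct.includeLeftRingHom : B →+* B ⊗[D] C)).toAlgebra
  haveI : IsScalarTower B (B ⊗[D] C) NBs := .of_algebraMap_eq fun _ => rfl
  letI aN : Algebra Ω N := ((algebraMap (Ω ⊗[D] C) N).comp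
    (Algebra.TensorProduct.includeLeftRingHom : Ω →+* Ω ⊗[D] C)).toAlgebra
  letI aBN : Algebra B N := ((algebraMap Ω N).comp (algebraMap B Ω)).toAlgebra
  haveI : IsScalarTower B Ω N := .of_algebraMap_eq fun _ => rfl
  have hιx : ∀ x : B ⊗[D] C, NBs.val (algebraMap (B ⊗[D] C) NBs x) =
      algebraMap (Ω ⊗[D] C) N (bcMap D Ω C B x) := fun x => rfl
  let ι : NBs →ₐ[B] N :=
    { NBs.val.toRingHom with
      commutes' := fun b => by
        change NBs.val (algebraMap (B ⊗[D] C) NBs (b ⊗ₜ 1)) = algebraMap (Ω ⊗[D] C) N (algebraMap B Ω b ⊗ₜ 1)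
        rw [hιx]
        rfl }
  let e : Ω ⊗[B] NBs →ₐ[Ω] N := Algebra.TensorProduct.lift (Algebra.ofId Ω N) ι fun _ _ => Commute.all _ _
  have he : ∀ (ω : Ω) (n : NBs), e (ω ⊗ₜ n) = algebraMap (Ω ⊗[D] C) N (ω ⊗ₜ 1) * ι n := fun ω n => rfl
  have hyP : ∀ l, y l ∈ P := fun l => Submodule.subset_span ⟨l, rfl⟩
  let yh : Fin k → NBs := fun l => ⟨y l, hyP l⟩
  have hfinTB : Module.Finite TB NBs := by
    have h1 : Module.Finite TB P := Module.Finite.iff_fg.2 ⟨Finset.univ.image y, by simp [P]⟩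
    exact Module.Finite.equiv (M := P)
      { toFun := fun x => (⟨x.1, x.2⟩ : NBs)
        invFun := fun x => ⟨x.1, x.2⟩
        map_add' := fun _ _ => rfl
        map_smul' := fun _ _ => rfl
        left_inv := fun _ => rfl
        right_inv := fun _ => rfl }
  have hfin : Module.Finite (B ⊗[D] C) NBs := by
    letI : Algebra (B ⊗[D] C) TB := toTB.toRingHom.toAlgebra
    haveI : IsScalarTower (B ⊗[D] C) TB NBs := .of_algebraMap_eq fun _ => rfl
    haveI : Module.Finite (B ⊗[D] C) TB :=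
      Module.Finite.of_surjective (Algebra.linearMap (B ⊗[D] C) TB) htoTB
    exact Module.Finite.trans TB NBs
  -- the map `θ`
  let γ : C →ₐ[D] Ω ⊗[B] NBs :=
    { ((Algebra.TensorProduct.includeRight : NBs →ₐ[B] Ω ⊗[B] NBs).toRingHom.comp
        (algebraMap (B ⊗[D] C) NBs)).comp (Algebra.TensorProduct.includeRight : C →ₐ[D] B ⊗[D] C).toRingHom with
      commutes' := fun d => by
        change (1 : Ω) ⊗ₜ[B] (algebraMap (B ⊗[D] C) NBs ((1 : B) ⊗ₜ[D] algebraMap D C d)) =
          (algebraMap D Ω d) ⊗ₜ[B] (1 : NBs)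
        have h1 : (1 : B) ⊗ₜ[D] algebraMap D C d = (algebraMap D B d) ⊗ₜ[D] (1 : C) := by
          rw [Algebra.algebraMap_eq_smul_one, Algebra.algebraMap_eq_smul_one, TensorProduct.smul_tmul]
        have h2 : algebraMap (B ⊗[D] C) NBs ((algebraMap D B d) ⊗ₜ[D] (1 : C)) =
            (algebraMap D B d) • (1 : NBs) := by
          rw [Algebra.smul_def, mul_one]
          rfl
        rw [h1, h2, ← TensorProduct.smul_tmul, Algebra.smul_def, mul_one,
          ← IsScalarTower.algebraMap_apply D B Ω] }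
  let θ : Ω ⊗[D] C →ₐ[Ω] Ω ⊗[B] NBs :=
    Algebra.TensorProduct.lift (Algebra.ofId Ω _) γ fun _ _ => Commute.all _ _
  have hθ : ∀ (ω : Ω) (c : C), θ (ω ⊗ₜ c) = (ω ⊗ₜ[B] (1 : NBs)) *
      ((1 : Ω) ⊗ₜ[B] algebraMap (B ⊗[D] C) NBs (1 ⊗ₜ c)) := fun ω c => rfl
  have hθB : ∀ x : B ⊗[D] C, θ (bcMap D Ω C B x) = (1 : Ω) ⊗ₜ[B] algebraMap (B ⊗[D] C) NBs x := by
    intro x
    induction x using TensorProduct.induction_on with
    | zero => simp
    | add x y hx hy => rw [map_add, map_add, hx, hy, map_add, TensorProduct.tmul_add]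
    | tmul b c =>
      have h1 : bcMap D Ω C B (b ⊗ₜ c) = algebraMap B Ω b ⊗ₜ c := rfl
      have h2 : (b ⊗ₜ[D] c : B ⊗[D] C) = (b ⊗ₜ 1) * (1 ⊗ₜ c) := by simp
      have h3 : algebraMap (B ⊗[D] C) NBs (b ⊗ₜ 1) = b • (1 : NBs) := by
        rw [Algebra.smul_def, mul_one]
        rfl
      rw [h1, hθ, h2, map_mul, h3, smul_mul_assoc, one_mul, ← TensorProduct.smul_tmul,
        Algebra.TensorProduct.tmul_mul_tmul, mul_one, one_mul, Algebra.smul_def, mul_one]
  have heθ : ∀ t : Ω ⊗[D] C, e (θ t) = algebraMap (Ω ⊗[D] C) N t := by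
    intro t
    induction t using TensorProduct.induction_on with
    | zero => simp
    | add x y hx hy => rw [map_add, map_add, hx, hy, map_add]
    | tmul ω c =>
      have h2 : (ω ⊗ₜ[D] c : Ω ⊗[D] C) = (ω ⊗ₜ 1) * (1 ⊗ₜ c) := by simp
      have h3 : ι (algebraMap (B ⊗[D] C) NBs (1 ⊗ₜ c)) = algebraMap (Ω ⊗[D] C) N (1 ⊗ₜ c) := by
        change NBs.val (algebraMap (B ⊗[D] C) NBs (1 ⊗ₜ c)) = _
        rw [hιx]
        change algebraMap (Ω ⊗[D] C) N (algebraMap B Ω 1 ⊗ₜ c) = _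
        rw [map_one]
      rw [hθ, map_mul, he, he, h3, map_one, mul_one, h2, map_mul]
      congr 1
      rw [show ((1 : Ω) ⊗ₜ[D] (1 : C) : Ω ⊗[D] C) = 1 from rfl, map_one, one_mul]
  let Θ : (Fin k → Ω ⊗[D] C) → Ω ⊗[B] NBs := fun v => ∑ l, θ (v l) * (1 ⊗ₜ yh l)
  have heΘ : ∀ v, e (Θ v) = f v := by
    intro v
    rw [hfv]
    change e (∑ l, θ (v l) * (1 ⊗ₜ yh l)) = _
    rw [map_sum]
    refine Finset.sum_congr rfl fun l _ => ?_
    have h4 : e ((1 : Ω) ⊗ₜ[B] yh l) = y l := by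
      rw [he, show ((1 : Ω) ⊗ₜ[D] (1 : C) : Ω ⊗[D] C) = 1 from rfl, map_one, one_mul]
      rfl
    rw [map_mul, heθ, h4, Algebra.smul_def]
  have hΘ0 : ∀ v ∈ Submodule.span (Ω ⊗[D] C) (R : Set (Fin k → Ω ⊗[D] C)), Θ v = 0 := by
    intro v hv
    induction hv using Submodule.span_induction with
    | zero => simp [Θ]
    | add a b _ _ ha hb =>
      have : Θ (a + b) = Θ a + Θ b := by
        simp only [Θ, Pi.add_apply, map_add, add_mul, Finset.sum_add_distrib]
      rw [this, ha, hb, add_zero]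
    | smul t a _ ha =>
      have : Θ (t • a) = θ t * Θ a := by
        simp only [Θ, Pi.smul_apply, smul_eq_mul, map_mul, Finset.mul_sum, mul_assoc]
      rw [this, ha, mul_zero]
    | mem ρ hρ =>
      have hx : ∀ l, ∃ x : B ⊗[D] C, bcMap D Ω C B x = ρ l := fun l =>
        hs _ (Finset.mem_union_left _ (Finset.mem_union_right _ (Finset.mem_biUnion.2 ⟨ρ, hρ,
          Finset.mem_image.2 ⟨l, Finset.mem_univ _, rfl⟩⟩)))
      choose x hx using hx
      have h5 : Θ ρ = (1 : Ω) ⊗ₜ[B] (∑ l, algebraMap (B ⊗[D] C) NBs (x l) * yh l) := by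
        rw [TensorProduct.tmul_sum]
        refine Finset.sum_congr rfl fun l _ => ?_
        rw [← hx l, hθB, Algebra.TensorProduct.tmul_mul_tmul, one_mul]
      have h6 : (∑ l, algebraMap (B ⊗[D] C) NBs (x l) * yh l) = 0 := by
        apply Subtype.val_injective
        have h7 : NBs.val (∑ l, algebraMap (B ⊗[D] C) NBs (x l) * yh l) = f ρ := by
          rw [hfv, map_sum]
          refine Finset.sum_congr rfl fun l _ => ?_
          rw [map_mul, hιx, hx, Algebra.smul_def]
          rfl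
        have h8 : f ρ = 0 := by
          have : ρ ∈ LinearMap.ker f := by
            rw [← hR]
            exact Submodule.subset_span hρ
          exact this
        exact h7.trans h8
      rw [h5, h6, TensorProduct.tmul_zero]
  have hΘs : ∀ z : Ω ⊗[B] NBs, ∃ v, Θ v = z := by
    intro z
    induction z using TensorProduct.induction_on with
    | zero => exact ⟨0, by simp [Θ]⟩
    | add a b ha hb =>
      obtain ⟨v, hv⟩ := ha
      obtain ⟨w, hw⟩ := hb
      refine ⟨v + w, ?_⟩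
      rw [← hv, ← hw]
      simp only [Θ, Pi.add_apply, map_add, add_mul, Finset.sum_add_distrib]
    | tmul ω n =>
      obtain ⟨r, hr⟩ := (Submodule.mem_span_range_iff_exists_fun TB).1 (show n.1 ∈ P from n.2)
      have hx : ∀ l, ∃ x : B ⊗[D] C, toTB x = r l := fun l => htoTB _
      choose x hx using hx
      have h5 : n = ∑ l, algebraMap (B ⊗[D] C) NBs (x l) * yh l := by
        apply Subtype.val_injective
        have h7 : NBs.val (∑ l, algebraMap (B ⊗[D] C) NBs (x l) * yh l) = ∑ l, r l • y l := by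
          rw [map_sum]
          refine Finset.sum_congr rfl fun l _ => ?_
          rw [map_mul, hιx, ← hx l]
          change _ = (toTB (x l)).1 • y l
          rw [Algebra.smul_def]
          rfl
        exact (h7.trans hr).symm
      refine ⟨fun l => (ω ⊗ₜ 1) * bcMap D Ω C B (x l), ?_⟩
      have h6 : θ (ω ⊗ₜ 1) = ω ⊗ₜ[B] (1 : NBs) := by
        rw [hθ, show ((1 : B) ⊗ₜ[D] (1 : C) : B ⊗[D] C) = 1 from rfl, map_one,
          Algebra.TensorProduct.tmul_mul_tmul, mul_one, mul_one]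
      conv_rhs => rw [h5, TensorProduct.tmul_sum]
      refine Finset.sum_congr rfl fun l _ => ?_
      rw [map_mul, h6, hθB, Algebra.TensorProduct.tmul_mul_tmul, Algebra.TensorProduct.tmul_mul_tmul,
        mul_one, mul_one, one_mul]
  refine ⟨NBs, inferInstance, aBC, aB, inferInstance, ι.toRingHom, e.toRingHom,
    Subtype.val_injective, hιx, hfin, he, ⟨?_, ?_⟩, fun z hz => ⟨⟨z, hFP z hz⟩, rfl⟩⟩
  · rw [injective_iff_map_eq_zero]
    intro z hz
    obtain ⟨v, rfl⟩ := hΘs z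
    apply hΘ0
    rw [hR]
    exact (heΘ v).symm.trans hz
  · intro n
    exact ⟨Θ (c n), (heΘ _).trans (hc n)⟩

end desc

end K142.Gen
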