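import Groth.Agent.FlatMor.K249.NormSpread3
import Groth.Agent.FlatMor.K249.AlgGeneric
import Groth.Agent.S2070
import Groth.Agent.S2670
import Groth.Agent.S6278
import Groth.Agent.Models.K378.NormGeom
import Groth.Agent.Models.RMGRing

/-!
# Generic good behaviour of an algebra whose geometric generic fibre is a normal domain

Let `B` be a Noetherian domain and `A` a `B`-algebra of finite type such that `Ω ⊗[B] A` is a normal domain for an
algebraically closed field `Ω` containing `B`.  After inverting one `g ≠ 0` in `B`, the base change of `A` to every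
normal domain is a normal domain, and `A` is flat.
-/

set_option autoImplicit false
set_option linter.style.haveILetI false
universe u
open CategoryTheory CategoryTheory.Limits AlgebraicGeometry TensorProduct

namespace K142.GenGood

section

variable (B A : Type u) [CommRing B] [CommRing A] [Algebra B A]

theorem isPullback_spec (E : Type u) [CommRing E] [Algebra B E] :
    IsPullback (Spec.map (CommRingCat.ofHom (Algebra.TensorProduct.includeRight : A →ₐ[B] E ⊗[B] A).toRingHom))
      (Spec.map (CommRingCat.ofHom (algebraMap E (E ⊗[B] A))))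
      (Spec.map (CommRingCat.ofHom (algebraMap B A))) (Spec.map (CommRingCat.ofHom (algebraMap B E))) :=
  (isPullback_SpecMap_of_isPushout _ _ _ _ (CommRingCat.isPushout_tensorProduct B E A)).flip

variable {B A}

/-- Base change squares factor through an open of the base. -/
theorem exists_square {W : (Spec (CommRingCat.of B)).Opens} {E : Type u} [CommRing E] [Algebra B E]
    (t' : Spec (CommRingCat.of E) ⟶ (W : Scheme.{u}))
    (ht : t' ≫ W.ι = Spec.map (CommRingCat.ofHom (algebraMap B E))) :
    ∃ a, IsPullback a (Spec.map (CommRingCat.ofHom (algebraMap E (E ⊗[B] A))))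
      (Spec.map (CommRingCat.ofHom (algebraMap B A)) ∣_ W) t' := by
  have hR := (isPullback_morphismRestrict (Spec.map (CommRingCat.ofHom (algebraMap B A))) W).flip
  have sq := isPullback_spec B A E
  have hw : Spec.map (CommRingCat.ofHom (Algebra.TensorProduct.includeRight : A →ₐ[B] E ⊗[B] A).toRingHom) ≫
      Spec.map (CommRingCat.ofHom (algebraMap B A)) =
      (Spec.map (CommRingCat.ofHom (algebraMap E (E ⊗[B] A))) ≫ t') ≫ W.ι := by
    rw [Category.assoc, ht]
    exact sq.w
  refine ⟨hR.lift _ _ hw, ?_⟩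
  refine IsPullback.of_right ?_ (hR.lift_snd _ _ hw) hR
  rw [hR.lift_fst, ht]
  exact sq

theorem exists_lift {W : (Spec (CommRingCat.of B)).Opens} {g : B} (hg : PrimeSpectrum.basicOpen g ≤ W)
    (E : Type u) [CommRing E] [Algebra B E] (hE : IsUnit (algebraMap B E g)) :
    ∃ t' : Spec (CommRingCat.of E) ⟶ (W : Scheme.{u}),
      t' ≫ W.ι = Spec.map (CommRingCat.ofHom (algebraMap B E)) := by
  have h : Set.range (Spec.map (CommRingCat.ofHom (algebraMap B E))) ⊆ Set.range W.ι := by
    rw [Scheme.Opens.range_ι]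
    rintro _ ⟨x, rfl⟩
    apply hg
    change algebraMap B E g ∉ x.asIdeal
    intro h
    exact x.isPrime.ne_top (Ideal.eq_top_of_isUnit_mem _ h hE)
  exact ⟨IsOpenImmersion.lift W.ι _ h, IsOpenImmersion.lift_fac _ _ _⟩

theorem finiteType_map [Algebra.FiniteType B A] :
    LocallyOfFiniteType (Spec.map (CommRingCat.ofHom (algebraMap B A))) := by
  rw [HasRingHomProperty.Spec_iff (P := @LocallyOfFiniteType)]
  exact (RingHom.finiteType_algebraMap (A := B) (B := A)).2 inferInstance

theorem finitePresentation_map [Algebra.FinitePresentation B A] :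
    LocallyOfFinitePresentation (Spec.map (CommRingCat.ofHom (algebraMap B A))) := by
  rw [HasRingHomProperty.Spec_iff (P := @LocallyOfFinitePresentation)]
  exact (RingHom.finitePresentation_algebraMap (A := B) (B := A)).2 inferInstance

theorem flat_of_map (E F : Type u) [CommRing E] [CommRing F] [Algebra E F]
    (h : Flat (Spec.map (CommRingCat.ofHom (algebraMap E F)))) : Module.Flat E F := by
  rw [HasRingHomProperty.Spec_iff (P := @Flat)] at h
  exact (RingHom.flat_algebraMap_iff).1 h

theorem isDomain_of_isIntegral_spec (R : Type u) [CommRing R] (h : IsIntegral (Spec (CommRingCat.of R))) :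
    IsDomain R :=
  (affine_isIntegral_iff (CommRingCat.of R)).1 h

theorem isNormalScheme_spec (R : Type u) [CommRing R] [IsDomain R] [IsIntegrallyClosed R] :
    Pi1.IsNormalScheme (Spec (CommRingCat.of R)) := by
  intro x
  obtain ⟨h1, h2⟩ := Groth.Agent.Models.RMGRing.isNormalRing (R := R) x.asIdeal
  let e : (Spec (CommRingCat.of R)).presheaf.stalk x ≃+* Localization.AtPrime x.asIdeal :=
    (Spec.stalkIso (CommRingCat.of R) x).commRingCatIsoToRingEquiv
  have hd : IsDomain ((Spec (CommRingCat.of R)).presheaf.stalk x) := e.toMulEquiv.isDomain _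
  exact ⟨hd, IsIntegrallyClosed.of_equiv e.symm⟩

theorem isIntegrallyClosed_of_isNormalRing (R : Type u) [CommRing R] [IsDomain R]
    (h : EGA4.IsNormalRing R) : IsIntegrallyClosed R :=
  (isIntegrallyClosed_iff_isIntegrallyClosedIn (FractionRing R)).2 (Groth.Agent.S6278.result R h)

/-- A flat algebra over a domain with integral generic fibre is a domain. -/
theorem isDomain_of_generic (E : Type u) [CommRing E] [IsDomain E] [Algebra B E]
    (hfl : Module.Flat E (E ⊗[B] A)) (L : Type u) [Field L] [Algebra E L] [Algebra B L] [IsScalarTower B E L]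
    (hinj : Function.Injective (algebraMap E L)) (hL : IsDomain (L ⊗[B] A)) : IsDomain (E ⊗[B] A) := by
  let e : L ⊗[E] (E ⊗[B] A) ≃ₐ[L] L ⊗[B] A := Algebra.TensorProduct.cancelBaseChange B E L L A
  have h1 : Function.Injective (Algebra.TensorProduct.includeRight : E ⊗[B] A →ₐ[E] L ⊗[E] (E ⊗[B] A)) :=
    Algebra.TensorProduct.includeRight_injective hinj
  exact Function.Injective.isDomain (e.toRingEquiv.toRingHom.comp
    (Algebra.TensorProduct.includeRight : E ⊗[B] A →ₐ[E] L ⊗[E] (E ⊗[B] A)).toRingHom)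
    (e.injective.comp h1)

/-- Normal fibres over all fields. -/
theorem isNormalRing_field {W : (Spec (CommRingCat.of B)).Opens}
    (hn : ∀ s ∈ W, ∀ (K : Type u) [Field K] (φ : (Spec (CommRingCat.of B)).residueField s →+* K),
      Pi1.IsNormalScheme (pullback ((Spec.map (CommRingCat.ofHom (algebraMap B A))).fiberToSpecResidueField s)
        (Spec.map (CommRingCat.ofHom φ)))) {g : B} (hg : PrimeSpectrum.basicOpen g ≤ W)
    (K : Type u) [Field K] [Algebra B K] (hK : algebraMap B K g ≠ 0) : EGA4.IsNormalRing (K ⊗[B] A) := by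
  obtain ⟨t', ht'⟩ := exists_lift hg K (isUnit_iff_ne_zero.2 hK)
  have hs : Spec.map (CommRingCat.ofHom (algebraMap B K)) (IsLocalRing.closedPoint K) ∈ W := by
    rw [← ht']
    exact (t' (IsLocalRing.closedPoint K)).2
  obtain ⟨φ, ⟨e⟩⟩ := K249.NormSpread2.exists_fiber_pullback _ (isPullback_spec B A K) rfl
  exact K378.NormGeom.isNormalRing_of_spec (K249.NormSpread2.isNormalScheme_of_iso e (hn _ hs K φ))

omit [CommRing B] [CommRing A] [Algebra B A] in
theorem isNormalRing_fiber (R S : Type u) [CommRing R] [CommRing S] [Algebra R S] (p : Ideal R) [p.IsPrime]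
    (k' : Type u) [Field k'] [Algebra p.ResidueField k'] [Algebra R k'] [IsScalarTower R p.ResidueField k']
    (h : EGA4.IsNormalRing (k' ⊗[R] S)) : EGA4.IsNormalRing (k' ⊗[p.ResidueField] (p.Fiber S)) := by
  let e1 : k' ⊗[p.ResidueField] (p.ResidueField ⊗[R] S) ≃ₐ[k'] k' ⊗[R] S :=
    Algebra.TensorProduct.cancelBaseChange R p.ResidueField k' k' S
  exact Groth.Agent.S2070.isNormalRing_of_ringEquiv e1.symm.toRingEquiv h

/-- The main result. -/
theorem exists_good [IsDomain B] [IsNoetherianRing B] [Algebra.FiniteType B A] (Ω : Type u) [Field Ω]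
    [IsAlgClosed Ω] [Algebra B Ω] (hinj : Function.Injective (algebraMap B Ω))
    (hdom : IsDomain (Ω ⊗[B] A)) (hic : IsIntegrallyClosed (Ω ⊗[B] A)) :
    ∃ g : B, g ≠ 0 ∧ ∀ (E : Type u) [CommRing E] [Algebra B E], IsUnit (algebraMap B E g) →
      Module.Flat E (E ⊗[B] A) ∧
      (IsDomain E → IsIntegrallyClosed E → IsDomain (E ⊗[B] A) ∧ IsIntegrallyClosed (E ⊗[B] A)) := by
  have hft := finiteType_map (B := B) (A := A)
  have : Algebra.FinitePresentation B A := Algebra.FinitePresentation.of_finiteType.1 inferInstance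
  have hfp := finitePresentation_map (B := B) (A := A)
  have hY : IsIntegral (Spec (CommRingCat.of (Ω ⊗[B] A))) :=
    (affine_isIntegral_iff (CommRingCat.of (Ω ⊗[B] A))).2 hdom
  obtain ⟨W, hW, hfl, hgi, hn⟩ := K249.NormSpread3.exists_good_open
    (Spec.map (CommRingCat.ofHom (algebraMap B A))) _ (K249.AlgGeneric.map_closedPoint _ hinj) _ _
    (isPullback_spec B A Ω) (isNormalScheme_spec _)
  obtain ⟨g, hg0, hgW⟩ : ∃ g : B, g ≠ 0 ∧ PrimeSpectrum.basicOpen g ≤ W := by
    have h1 : genericPoint (Spec (CommRingCat.of B)) ∈ W := Groth.Agent.Flat2D.GenFibTop.genericPoint_mem W hW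
    rw [genericPoint_eq_bot_of_affine] at h1
    obtain ⟨_, ⟨g, rfl⟩, hg1, hg2⟩ :=
      PrimeSpectrum.isTopologicalBasis_basic_opens.exists_subset_of_mem_open h1 W.2
    exact ⟨g, fun h => hg1 (by rw [h]; exact Ideal.zero_mem _), hg2⟩
  have hflat : ∀ (E : Type u) [CommRing E] [Algebra B E], IsUnit (algebraMap B E g) →
      Module.Flat E (E ⊗[B] A) := by
    intro E _ _ hE
    obtain ⟨t', ht'⟩ := exists_lift hgW E hE
    obtain ⟨a, ha⟩ := exists_square (A := A) t' ht'
    exact flat_of_map E _ (MorphismProperty.of_isPullback ha hfl)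
  refine ⟨g, hg0, fun E _ _ hE => ⟨hflat E hE, fun hE1 hE2 => ?_⟩⟩
  have hdomE : IsDomain (E ⊗[B] A) := by
    let L := FractionRing E
    have hL : IsUnit (algebraMap B L g) := by
      rw [IsScalarTower.algebraMap_apply B E L]
      exact hE.map _
    obtain ⟨t', ht'⟩ := exists_lift hgW L hL
    obtain ⟨a, ha⟩ := exists_square (A := A) t' ht'
    have h1 : IsIntegral (Spec (CommRingCat.of (L ⊗[B] A))) :=
      GeometricallyIntegral.geometrically_isIntegral (f := Spec.map (CommRingCat.ofHom (algebraMap B A)) ∣_ W)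
        (K := L) t' _ _ ha
    exact isDomain_of_generic E (hflat E hE) L (IsFractionRing.injective E L)
      (isDomain_of_isIntegral_spec _ h1)
  refine ⟨hdomE, isIntegrallyClosed_of_isNormalRing _ ?_⟩
  let Bg := Localization.Away g
  have hBg : IsUnit (algebraMap B Bg g) := IsLocalization.Away.algebraMap_isUnit g
  letI : Algebra Bg E := (IsLocalization.Away.lift g hE).toAlgebra
  haveI : IsScalarTower B Bg E := .of_algebraMap_eq fun x => (IsLocalization.Away.lift_eq g hE x).symm
  have : IsNoetherianRing Bg := IsLocalization.isNoetherianRing (Submonoid.powers g) Bg inferInstance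
  have : Algebra.FiniteType Bg (Bg ⊗[B] A) := inferInstance
  have : IsNoetherianRing (Bg ⊗[B] A) := Algebra.FiniteType.isNoetherianRing Bg _
  have hNH : EGA4.IsNormalHom Bg (Bg ⊗[B] A) := by
    refine ⟨hflat Bg hBg, fun p hp k' _ _ _ => ?_⟩
    letI : Algebra Bg k' := ((algebraMap p.ResidueField k').comp (algebraMap Bg p.ResidueField)).toAlgebra
    haveI : IsScalarTower Bg p.ResidueField k' := .of_algebraMap_eq fun _ => rfl
    letI : Algebra B k' := ((algebraMap Bg k').comp (algebraMap B Bg)).toAlgebra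
    haveI : IsScalarTower B Bg k' := .of_algebraMap_eq fun _ => rfl
    have hk : algebraMap B k' g ≠ 0 := by
      rw [IsScalarTower.algebraMap_apply B Bg k']
      exact (hBg.map (algebraMap Bg k')).ne_zero
    have h2 := isNormalRing_field hn hgW k' hk
    let e2 : k' ⊗[Bg] (Bg ⊗[B] A) ≃ₐ[k'] k' ⊗[B] A := Algebra.TensorProduct.cancelBaseChange B Bg k' k' A
    exact isNormalRing_fiber Bg (Bg ⊗[B] A) p k'
      (Groth.Agent.S2070.isNormalRing_of_ringEquiv e2.symm.toRingEquiv h2)
  have h1 := Groth.Agent.S2670.result Bg (Bg ⊗[B] A) hNH E (Groth.Agent.Models.RMGRing.isNormalRing)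
  let e1 : E ⊗[Bg] (Bg ⊗[B] A) ≃ₐ[E] E ⊗[B] A := Algebra.TensorProduct.cancelBaseChange B Bg E E A
  exact Groth.Agent.S2070.isNormalRing_of_ringEquiv
    ((Algebra.TensorProduct.comm Bg (Bg ⊗[B] A) E).toRingEquiv.trans e1.toRingEquiv) h1

end

end K142.GenGood
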