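import Groth.Agent.EtAcyc.K142.GenGood
import Groth.Agent.EtAcyc.K142.GenCover
import Groth.Agent.EtAcyc.K142.GenBij

/-!
# One piece of the generic construction
-/

set_option autoImplicit false
set_option linter.style.haveILetI false
universe u
open TensorProduct

namespace K142.GenPiece

open K142.GenNoeth (psi)

theorem finite_of_psi_zero {B A : Type u} [CommRing B] [CommRing A] [Algebra B A] (y : Fin 0 → A)
    (E : Type u) [CommRing E] [Algebra B E] (h : (psi B y E).toRingHom.Finite) :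
    Module.Finite E (E ⊗[B] A) := by
  have h1 : (algebraMap E (E ⊗[B] A)) = (psi B y E).toRingHom.comp
      (MvPolynomial.C : E →+* MvPolynomial (Fin 0) E) := by
    ext e
    change _ = psi B y E (MvPolynomial.C e)
    rw [MvPolynomial.algHom_C]
  have h2 : (algebraMap E (E ⊗[B] A)).Finite := by
    rw [h1]
    exact h.comp (RingHom.Finite.of_surjective _ (MvPolynomial.C_surjective (Fin 0)))
  exact (RingHom.finite_algebraMap).1 h2

theorem injective_of_psi {B A : Type u} [CommRing B] [CommRing A] [Algebra B A] {m : ℕ} (y : Fin m → A)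
    (E : Type u) [CommRing E] [Algebra B E] (h : Function.Injective (psi B y E)) :
    Function.Injective (algebraMap E (E ⊗[B] A)) := by
  intro a b hab
  rw [← MvPolynomial.algHom_C (psi B y E), ← MvPolynomial.algHom_C (psi B y E)] at hab
  exact MvPolynomial.C_injective _ _ (h hab)

theorem dim_of_psi {B A : Type u} [CommRing B] [CommRing A] [Algebra B A] {m : ℕ} (y : Fin m → A)
    (E : Type u) [Field E] [Algebra B E] (h : Function.Injective (psi B y E)) (h' : (psi B y E).toRingHom.Finite) :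
    ringKrullDim (E ⊗[B] A) = m := by
  letI a2 : Algebra (MvPolynomial (Fin m) E) (E ⊗[B] A) := (psi B y E).toRingHom.toAlgebra
  haveI : Module.Finite (MvPolynomial (Fin m) E) (E ⊗[B] A) := h'
  haveI : Algebra.IsIntegral (MvPolynomial (Fin m) E) (E ⊗[B] A) := Algebra.IsIntegral.of_finite _ _
  rw [Groth.Agent.FlatA.DimFin.ringKrullDim_eq_of_isIntegral_of_injective (MvPolynomial (Fin m) E) (E ⊗[B] A) h,
    Groth.Agent.FlatA.DimFin.ringKrullDim_mvPolynomial_fin]

/-- All the generic properties of an algebra whose geometric generic fibre is a normal domain. -/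
theorem exists_piece {B A : Type u} [CommRing B] [IsDomain B] [IsNoetherianRing B] [CommRing A] [Algebra B A]
    [Algebra.FiniteType B A] (Ω : Type u) [Field Ω] [IsAlgClosed Ω] [Algebra B Ω]
    (hinj : Function.Injective (algebraMap B Ω)) (hdom : IsDomain (Ω ⊗[B] A))
    (hic : IsIntegrallyClosed (Ω ⊗[B] A)) :
    ∃ (m : ℕ) (y : Fin m → A) (g : B), g ≠ 0 ∧ ringKrullDim (Ω ⊗[B] A) = m ∧
      ∀ (E : Type u) [CommRing E] [Algebra B E], IsUnit (algebraMap B E g) →
        Module.Flat E (E ⊗[B] A) ∧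
        (IsDomain E → IsIntegrallyClosed E → IsDomain (E ⊗[B] A) ∧ IsIntegrallyClosed (E ⊗[B] A)) ∧
        Function.Injective (psi B y E) ∧ (psi B y E).toRingHom.Finite ∧
        (m = 1 → Algebra.Smooth E (E ⊗[B] A)) ∧
        (m = 0 → Function.Bijective (algebraMap E (E ⊗[B] A))) := by
  have hfp : Algebra.FinitePresentation B A := Algebra.FinitePresentation.of_finiteType.1 inferInstance
  obtain ⟨g1, hg1, h1⟩ := K142.GenGood.exists_good Ω hinj hdom hic
  let L := FractionRing B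
  letI : Algebra L Ω := (IsFractionRing.lift hinj).toAlgebra
  haveI : IsScalarTower B L Ω := .of_algebraMap_eq fun x => (IsFractionRing.lift_algebraMap hinj x).symm
  have hnt : Nontrivial (L ⊗[B] A) :=
    (Algebra.TensorProduct.map (IsScalarTower.toAlgHom B L Ω) (AlgHom.id B A)).toRingHom.domain_nontrivial
  obtain ⟨m, y, g2, hg2, -, h2⟩ := K142.GenNoeth.exists_noether (B := B) (A := A) L
  have hΩ : ∀ g : B, g ≠ 0 → IsUnit (algebraMap B Ω g) := fun g hg =>
    isUnit_iff_ne_zero.2 fun h => hg (hinj (by rw [h, map_zero]))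
  have hdim : ringKrullDim (Ω ⊗[B] A) = m := dim_of_psi y Ω (h2 Ω (hΩ g2 hg2)).1 (h2 Ω (hΩ g2 hg2)).2
  obtain ⟨g3, hg3, h3⟩ : ∃ g3 : B, g3 ≠ 0 ∧ ∀ (E : Type u) [CommRing E] [Algebra B E],
      IsUnit (algebraMap B E g3) → m = 1 → Algebra.Smooth E (E ⊗[B] A) := by
    by_cases hm : m = 1
    · have hs : Algebra.Smooth Ω (Ω ⊗[B] A) :=
        K142.GenSmooth.smooth_geom Ω (Ω ⊗[B] A) (by rw [hdim, hm]; rfl)
      obtain ⟨b, hb, h⟩ := K142.GenSmooth.exists_smooth Ω hinj hs
      exact ⟨b, hb, fun E _ _ hE _ => h E hE⟩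
    · exact ⟨1, one_ne_zero, fun E _ _ _ h => absurd h hm⟩
  obtain ⟨g4, hg4, h4⟩ : ∃ g4 : B, g4 ≠ 0 ∧ ∀ (E : Type u) [CommRing E] [Algebra B E],
      IsUnit (algebraMap B E g4) → m = 0 → Function.Surjective (algebraMap E (E ⊗[B] A)) := by
    by_cases hm : m = 0
    · subst hm
      have hf : Module.Finite Ω (Ω ⊗[B] A) := finite_of_psi_zero y Ω (h2 Ω (hΩ g2 hg2)).2
      obtain ⟨b, hb, h⟩ := K142.GenBij.exists_surjective Ω hinj
        (K142.GenBij.surjective_of_finite Ω (Ω ⊗[B] A))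
      exact ⟨b, hb, fun E _ _ hE _ => h E hE⟩
    · exact ⟨1, one_ne_zero, fun E _ _ _ h => absurd h hm⟩
  refine ⟨m, y, g1 * g2 * g3 * g4, mul_ne_zero (mul_ne_zero (mul_ne_zero hg1 hg2) hg3) hg4, hdim,
    fun E _ _ hE => ?_⟩
  have e1 : IsUnit (algebraMap B E g1) := isUnit_of_dvd_unit (map_dvd _ ⟨g2 * g3 * g4, by ring⟩) hE
  have e2 : IsUnit (algebraMap B E g2) := isUnit_of_dvd_unit (map_dvd _ ⟨g1 * g3 * g4, by ring⟩) hE
  have e3 : IsUnit (algebraMap B E g3) := isUnit_of_dvd_unit (map_dvd _ ⟨g1 * g2 * g4, by ring⟩) hE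
  have e4 : IsUnit (algebraMap B E g4) := isUnit_of_dvd_unit (map_dvd _ ⟨g1 * g2 * g3, by ring⟩) hE
  exact ⟨(h1 E e1).1, (h1 E e1).2, (h2 E e2).1, (h2 E e2).2, h3 E e3,
    fun hm => ⟨injective_of_psi y E (h2 E e2).1, h4 E e4 hm⟩⟩

end K142.GenPiece
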