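import Groth.Agent.EtAcyc.K142.GenBase
import Groth.Agent.EtAcyc.K142.GenPiece

/-!
# Generic normal covers with a Noether normalization

Let `D` be a Noetherian domain and `C` a `D`-algebra of finite type.  After inverting one `d ≠ 0` in `D` and passing
to a finite extension `D1` of `D[1/d]` which is a domain, `Spec (D1 ⊗ C)` is covered by finitely many finite
`D1 ⊗ C`-algebras `A j`, each of which is flat over `D1` with normal base changes over every normal domain, and has a
Noether normalization over `D1` which is stable under base change; `A j` is smooth over `D1` if its relative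
dimension is one and equal to `D1` if its relative dimension is zero.
-/

set_option autoImplicit false
set_option linter.style.haveILetI false
universe u
open TensorProduct

namespace K142.Gen

open K142.GenNoeth (psi)

/-- The properties of the pieces of the generic construction. -/
structure IsGood (D1 A : Type u) [CommRing D1] [CommRing A] [Algebra D1 A] {m : ℕ} (y : Fin m → A) : Prop where
  isDomain : IsDomain A
  finiteType : Algebra.FiniteType D1 A
  flat : Module.Flat D1 A
  normal : ∀ (E : Type u) [CommRing E] [Algebra D1 E] [IsDomain E] [IsIntegrallyClosed E],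
    IsDomain (E ⊗[D1] A) ∧ IsIntegrallyClosed (E ⊗[D1] A)
  injective : ∀ (E : Type u) [CommRing E] [Algebra D1 E], Function.Injective (psi D1 y E)
  finite : ∀ (E : Type u) [CommRing E] [Algebra D1 E], (psi D1 y E).toRingHom.Finite
  smooth : m = 1 → Algebra.Smooth D1 A
  bijective : m = 0 → Function.Bijective (algebraMap D1 A)

theorem isGood_of {B D1 A : Type u} [CommRing B] [CommRing D1] [IsDomain D1] [CommRing A] [Algebra B A]
    [Algebra B D1] [Algebra.FiniteType B A] {m : ℕ} (y : Fin m → A) (g : B) (hu : IsUnit (algebraMap B D1 g))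
    (Ω : Type u) [Field Ω] [Algebra B Ω] [Algebra D1 Ω] [IsScalarTower B D1 Ω]
    (hinj : Function.Injective (algebraMap D1 Ω)) (hdom : IsDomain (Ω ⊗[B] A))
    (h : ∀ (E : Type u) [CommRing E] [Algebra B E], IsUnit (algebraMap B E g) →
        Module.Flat E (E ⊗[B] A) ∧
        (IsDomain E → IsIntegrallyClosed E → IsDomain (E ⊗[B] A) ∧ IsIntegrallyClosed (E ⊗[B] A)) ∧
        Function.Injective (psi B y E) ∧ (psi B y E).toRingHom.Finite ∧
        (m = 1 → Algebra.Smooth E (E ⊗[B] A)) ∧
        (m = 0 → Function.Bijective (algebraMap E (E ⊗[B] A)))) :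
    IsGood D1 (D1 ⊗[B] A) (fun i => (1 : D1) ⊗ₜ[B] y i) := by
  obtain ⟨h1, h2, h3, h4, h5, h6⟩ := h D1 hu
  refine ⟨K142.GenGood.isDomain_of_generic D1 h1 Ω hinj hdom, inferInstance, h1, ?_, ?_, ?_, h5, h6⟩
  · intro E _ _ _ _
    letI : Algebra B E := ((algebraMap D1 E).comp (algebraMap B D1)).toAlgebra
    haveI : IsScalarTower B D1 E := .of_algebraMap_eq fun _ => rfl
    have hE : IsUnit (algebraMap B E g) := hu.map (algebraMap D1 E)
    obtain ⟨h7, h8⟩ := (h E hE).2.1 inferInstance inferInstance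
    let e : E ⊗[D1] (D1 ⊗[B] A) ≃ₐ[E] E ⊗[B] A := Algebra.TensorProduct.cancelBaseChange B D1 E E A
    exact ⟨e.toMulEquiv.isDomain _, IsIntegrallyClosed.of_equiv e.symm.toRingEquiv⟩
  · intro E _ _
    letI : Algebra B E := ((algebraMap D1 E).comp (algebraMap B D1)).toAlgebra
    haveI : IsScalarTower B D1 E := .of_algebraMap_eq fun _ => rfl
    have hE : IsUnit (algebraMap B E g) := hu.map (algebraMap D1 E)
    have h7 := (h E hE).2.2.1
    rw [K142.GenNoeth.psi_cancel y D1 E] at h7
    exact Function.Injective.of_comp (f := (Algebra.TensorProduct.cancelBaseChange B D1 E E A)) h7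
  · intro E _ _
    letI : Algebra B E := ((algebraMap D1 E).comp (algebraMap B D1)).toAlgebra
    haveI : IsScalarTower B D1 E := .of_algebraMap_eq fun _ => rfl
    have hE : IsUnit (algebraMap B E g) := hu.map (algebraMap D1 E)
    have h7 := (h E hE).2.2.2.1
    have h8 : psi D1 (fun i => (1 : D1) ⊗ₜ[B] y i) E =
        (Algebra.TensorProduct.cancelBaseChange B D1 E E A).symm.toAlgHom.comp (psi B y E) := by
      rw [K142.GenNoeth.psi_cancel y D1 E]
      ext x
      simp
    rw [h8]
    exact RingHom.Finite.comp (RingHom.Finite.of_surjective _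
      (Algebra.TensorProduct.cancelBaseChange B D1 E E A).symm.surjective) h7

/-- Base change of a finite algebra. -/
theorem finite_map (B T N E : Type u) [CommRing B] [CommRing T] [CommRing N] [CommRing E]
    [Algebra B T] [Algebra B N] [Algebra T N] [IsScalarTower B T N] [Algebra B E] [Module.Finite T N]
    [Algebra.FiniteType B N] :
    (Algebra.TensorProduct.map (AlgHom.id E E) (IsScalarTower.toAlgHom B T N)).toRingHom.Finite := by
  letI : Algebra (E ⊗[B] T) (E ⊗[B] N) :=
    (Algebra.TensorProduct.map (AlgHom.id E E) (IsScalarTower.toAlgHom B T N)).toRingHom.toAlgebra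
  haveI : IsScalarTower E (E ⊗[B] T) (E ⊗[B] N) := .of_algebraMap_eq fun e => by
    change _ = Algebra.TensorProduct.map (AlgHom.id E E) (IsScalarTower.toAlgHom B T N) (e ⊗ₜ 1)
    rw [Algebra.TensorProduct.map_tmul, map_one]
    rfl
  have h1 : Algebra.FiniteType (E ⊗[B] T) (E ⊗[B] N) :=
    Algebra.FiniteType.of_restrictScalars_finiteType E (E ⊗[B] T) (E ⊗[B] N)
  have h2 : Algebra.IsIntegral (E ⊗[B] T) (E ⊗[B] N) := ⟨fun z => by
    induction z using TensorProduct.induction_on with
    | zero => exact isIntegral_zero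
    | add x y hx hy => exact hx.add hy
    | tmul e a =>
      have h7 : e ⊗ₜ[B] a = algebraMap (E ⊗[B] T) (E ⊗[B] N) (e ⊗ₜ 1) * ((1 : E) ⊗ₜ[B] a) := by
        change _ = Algebra.TensorProduct.map (AlgHom.id E E) (IsScalarTower.toAlgHom B T N) (e ⊗ₜ 1) * _
        rw [Algebra.TensorProduct.map_tmul, map_one, Algebra.TensorProduct.tmul_mul_tmul, mul_one, one_mul]
        rfl
      rw [h7]
      refine (isIntegral_algebraMap).mul ?_
      have h8 : IsIntegral T a := Algebra.IsIntegral.isIntegral a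
      exact h8.map_of_comp_eq (Algebra.TensorProduct.includeRight : T →ₐ[B] E ⊗[B] T).toRingHom
        (Algebra.TensorProduct.includeRight : N →ₐ[B] E ⊗[B] N).toRingHom (by
          ext t
          change Algebra.TensorProduct.map (AlgHom.id E E) (IsScalarTower.toAlgHom B T N) (1 ⊗ₜ t) = _
          rw [Algebra.TensorProduct.map_tmul]
          rfl)⟩
  exact Algebra.IsIntegral.finite

/-- The dimension does not grow under algebraic extensions of the ground field. -/
theorem dim_tensor_le (D K Ω C : Type u) [CommRing D] [Field K] [Algebra D K] [Field Ω] [Algebra D Ω]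
    [Algebra K Ω] [IsScalarTower D K Ω] [Algebra.IsAlgebraic K Ω] [CommRing C] [Algebra D C] :
    ringKrullDim (Ω ⊗[D] C) ≤ ringKrullDim (K ⊗[D] C) := by
  letI : Algebra (K ⊗[D] C) (Ω ⊗[D] C) :=
    (Algebra.TensorProduct.map (IsScalarTower.toAlgHom D K Ω) (AlgHom.id D C)).toRingHom.toAlgebra
  have h2 : Algebra.IsIntegral (K ⊗[D] C) (Ω ⊗[D] C) := ⟨fun z => by
    induction z using TensorProduct.induction_on with
    | zero => exact isIntegral_zero
    | add x y hx hy => exact hx.add hy
    | tmul e a =>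
      have h7 : e ⊗ₜ[D] a = (e ⊗ₜ[D] (1 : C)) * algebraMap (K ⊗[D] C) (Ω ⊗[D] C) ((1 : K) ⊗ₜ[D] a) := by
        change _ = _ * Algebra.TensorProduct.map (IsScalarTower.toAlgHom D K Ω) (AlgHom.id D C) (1 ⊗ₜ a)
        rw [Algebra.TensorProduct.map_tmul, map_one, Algebra.TensorProduct.tmul_mul_tmul, mul_one, one_mul]
        rfl
      rw [h7]
      refine IsIntegral.mul ?_ (isIntegral_algebraMap)
      have h8 : IsIntegral K e := Algebra.IsIntegral.isIntegral e
      exact h8.map_of_comp_eq (Algebra.TensorProduct.includeLeftRingHom : K →+* K ⊗[D] C)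
        (Algebra.TensorProduct.includeLeftRingHom : Ω →+* Ω ⊗[D] C) (by
          ext t
          change Algebra.TensorProduct.map (IsScalarTower.toAlgHom D K Ω) (AlgHom.id D C) (t ⊗ₜ 1) = _
          rw [Algebra.TensorProduct.map_tmul]
          rfl)⟩
  exact Groth.Agent.FlatA.DimFin.ringKrullDim_le_of_isIntegral (K ⊗[D] C) (Ω ⊗[D] C)

theorem cancel_bcMap (D Ω C B : Type u) [CommRing D] [CommRing Ω] [Algebra D Ω] [CommRing C] [Algebra D C]
    [CommRing B] [Algebra D B] [Algebra B Ω] [IsScalarTower D B Ω] (x : B ⊗[D] C) :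
    (Algebra.TensorProduct.cancelBaseChange D B Ω Ω C) ((1 : Ω) ⊗ₜ[B] x) = bcMap D Ω C B x := by
  induction x using TensorProduct.induction_on with
  | zero => simp
  | add x y hx hy => rw [TensorProduct.tmul_add, map_add, map_add, hx, hy]
  | tmul b c =>
    rw [Algebra.TensorProduct.cancelBaseChange_tmul, Algebra.smul_def, mul_one]
    rfl

/-- The generic construction. -/
theorem main (D C : Type u) [CommRing D] [IsDomain D] [IsNoetherianRing D] [CommRing C] [Algebra D C]
    [Algebra.FiniteType D C] :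
    ∃ (d : D) (D1 : Type u) (_ : CommRing D1) (_ : Algebra D D1) (_ : Algebra (Localization.Away d) D1)
      (n : ℕ) (A : Fin n → Type u) (_ : ∀ j, CommRing (A j)) (_ : ∀ j, Algebra D1 (A j))
      (_ : ∀ j, Algebra (D1 ⊗[D] C) (A j)) (m : Fin n → ℕ) (y : ∀ j, Fin (m j) → A j),
      d ≠ 0 ∧ IsDomain D1 ∧ IsScalarTower D (Localization.Away d) D1 ∧
      Module.Finite (Localization.Away d) D1 ∧ Function.Injective (algebraMap (Localization.Away d) D1) ∧
      (∀ j, IsScalarTower D1 (D1 ⊗[D] C) (A j)) ∧ (∀ j, Module.Finite (D1 ⊗[D] C) (A j)) ∧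
      (∀ Q : PrimeSpectrum (D1 ⊗[D] C), ∃ (j : Fin n) (Q' : PrimeSpectrum (A j)),
        PrimeSpectrum.comap (algebraMap (D1 ⊗[D] C) (A j)) Q' = Q) ∧
      (∀ j, ((m j : ℕ) : WithBot ℕ∞) ≤ ringKrullDim (FractionRing D ⊗[D] C)) ∧
      ∀ j, IsGood D1 (A j) (y j) := by
  classical
  let K := FractionRing D
  let Ω := AlgebraicClosure K
  have hDK : Function.Injective (algebraMap D K) := IsFractionRing.injective D K
  have hinj : Function.Injective (algebraMap D Ω) := by
    rw [IsScalarTower.algebraMap_eq D K Ω]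
    exact (algebraMap K Ω).injective.comp hDK
  have hDKalg : Algebra.IsAlgebraic D K := IsLocalization.isAlgebraic K (nonZeroDivisors D)
  have hDΩ : Algebra.IsAlgebraic D Ω := Algebra.IsAlgebraic.trans D K Ω
  have hR : IsNoetherianRing (Ω ⊗[D] C) := Algebra.FiniteType.isNoetherianRing Ω _
  obtain ⟨n, N, iN, aN, hNfin, hNdom, hNic, hNnil⟩ := K142.GenCover.exists_normalizations Ω (Ω ⊗[D] C)
  choose s hs using fun j => exists_form (D := D) (Ω := Ω) (C := C) (N j)
  obtain ⟨W, hW⟩ := K142.GenBase.exists_finset (D := D) (Ω := Ω) (C := C) (Finset.univ.biUnion s)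
  obtain ⟨d0, hd0, hWint⟩ := K142.GenBase.exists_integral_data (D := D) (Ω := Ω) W
  let B : Subalgebra D Ω := K142.GenBase.sub d0 W
  have hBs : ∀ j, ∀ x ∈ s j, x ∈ (bcMap D Ω C B).range := fun j x hx =>
    hW B (K142.GenBase.subset_sub d0 W) x (Finset.mem_biUnion.2 ⟨j, Finset.mem_univ j, hx⟩)
  have hBft : Algebra.FiniteType D B := by
    have h1 : B.FG := ⟨insert (algebraMap D Ω d0)⁻¹ W, by rw [Finset.coe_insert]; rfl⟩
    exact (Subalgebra.fg_iff_finiteType _).1 h1
  have hBN : IsNoetherianRing B := Algebra.FiniteType.isNoetherianRing D B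
  have hBinj : Function.Injective (algebraMap B Ω) := Subtype.val_injective
  choose NB iNB aTNB aBNB tNB ι e hι hιc hfin he hbij using fun j => hs j B (hBs j)
  have hTN : IsNoetherianRing (B ⊗[D] C) := Algebra.FiniteType.isNoetherianRing B _
  have hNBft : ∀ j, Algebra.FiniteType B (NB j) := fun j => by
    have h1 : Algebra.FiniteType B (B ⊗[D] C) := inferInstance
    have h2 : Algebra.FiniteType (B ⊗[D] C) (NB j) := inferInstance
    exact Algebra.FiniteType.trans h1 h2
  let eq : ∀ j, Ω ⊗[B] NB j ≃+* N j := fun j => RingEquiv.ofBijective (e j) (hbij j)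
  have hdomΩ : ∀ j, IsDomain (Ω ⊗[B] NB j) := fun j => (eq j).toMulEquiv.isDomain _
  have hicΩ : ∀ j, IsIntegrallyClosed (Ω ⊗[B] NB j) := fun j => IsIntegrallyClosed.of_equiv (eq j).symm
  choose m y g hg hmdim hgood using fun j =>
    K142.GenPiece.exists_piece (B := B) (A := NB j) Ω hBinj (hdomΩ j) (hicΩ j)
  obtain ⟨g0, hg0, hcov⟩ := K142.GenCover.exists_cover (B := B) (T := B ⊗[D] C) Ω hBinj NB (by
    intro x hx
    have h1 : IsNilpotent (bcMap D Ω C B x) := by
      apply hNnil
      intro j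
      rw [← hιc j, hx j, map_zero]
    have h2 : IsNilpotent ((Algebra.TensorProduct.cancelBaseChange D B Ω Ω C) ((1 : Ω) ⊗ₜ[B] x)) := by
      rw [cancel_bcMap]
      exact h1
    exact (IsNilpotent.map_iff (Algebra.TensorProduct.cancelBaseChange D B Ω Ω C).injective).1 h2)
  have hg' : g0 * ∏ j, g j ≠ 0 := mul_ne_zero hg0 (Finset.prod_ne_zero_iff.2 fun j _ => hg j)
  obtain ⟨d, hd, hdvd, hunit⟩ := K142.GenBase.exists_isUnit hinj hd0 W (g0 * ∏ j, g j) hg'
  have hle := K142.GenBase.sub_mono hinj hd hdvd W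
  let D1 : Subalgebra D Ω := K142.GenBase.sub d W
  obtain ⟨algD1, towD1, finD1, injD1⟩ := K142.GenBase.finite_sub hinj hd W (fun w hw => by
    obtain ⟨m, hm, hmi⟩ := hWint w hw
    exact ⟨m, hm.trans hdvd, hmi⟩)
  letI aBD1 : Algebra B D1 := (Subalgebra.inclusion hle).toRingHom.toAlgebra
  haveI tDBD1 : IsScalarTower D B D1 := .of_algebraMap_eq fun _ => rfl
  haveI tBD1Ω : IsScalarTower B D1 Ω := .of_algebraMap_eq fun _ => rfl
  have hug : IsUnit (algebraMap B D1 (g0 * ∏ j, g j)) := hunit hle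
  have hu0 : IsUnit (algebraMap B D1 g0) := isUnit_of_dvd_unit (map_dvd _ (dvd_mul_right _ _)) hug
  have huj : ∀ j, IsUnit (algebraMap B D1 (g j)) := fun j =>
    isUnit_of_dvd_unit (map_dvd _ (dvd_mul_of_dvd_right (Finset.dvd_prod_of_mem g (Finset.mem_univ j)) _)) hug
  let ε : D1 ⊗[B] (B ⊗[D] C) ≃ₐ[D1] D1 ⊗[D] C := Algebra.TensorProduct.cancelBaseChange D B D1 D1 C
  let μ : ∀ j, D1 ⊗[B] (B ⊗[D] C) →ₐ[D1] D1 ⊗[B] NB j := fun j =>
    Algebra.TensorProduct.map (AlgHom.id D1 D1) (IsScalarTower.toAlgHom B (B ⊗[D] C) (NB j))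
  letI aTA : ∀ j, Algebra (D1 ⊗[D] C) (D1 ⊗[B] NB j) := fun j =>
    ((μ j).toRingHom.comp ε.symm.toAlgHom.toRingHom).toAlgebra
  refine ⟨d, D1, inferInstance, inferInstance, algD1, n, fun j => D1 ⊗[B] NB j, fun j => inferInstance,
    fun j => inferInstance, aTA, m, fun j i => (1 : D1) ⊗ₜ[B] y j i, hd, inferInstance, towD1, finD1, injD1,
    ?_, ?_, ?_, ?_, ?_⟩
  · intro j
    refine .of_algebraMap_eq fun x => ?_
    change _ = μ j (ε.symm (algebraMap D1 (D1 ⊗[D] C) x))
    rw [AlgEquiv.commutes, AlgHom.commutes]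
  · intro j
    have h1 : ((μ j).toRingHom.comp ε.symm.toAlgHom.toRingHom).Finite :=
      RingHom.Finite.comp (finite_map B (B ⊗[D] C) (NB j) D1) (RingHom.Finite.of_surjective _ ε.symm.surjective)
    exact h1
  · intro Q
    obtain ⟨j, Q', hQ'⟩ := hcov D1 hu0 (PrimeSpectrum.comap ε.toAlgHom.toRingHom Q)
    refine ⟨j, Q', ?_⟩
    have key : ∀ z, μ j z ∈ Q'.asIdeal ↔ ε z ∈ Q.asIdeal := fun z =>
      Iff.of_eq (congrArg (fun P : PrimeSpectrum _ => z ∈ P.asIdeal) hQ')
    apply PrimeSpectrum.ext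
    ext x
    change μ j (ε.symm x) ∈ Q'.asIdeal ↔ x ∈ Q.asIdeal
    rw [key, AlgEquiv.apply_symm_apply]
  · intro j
    rw [← hmdim j, ringKrullDim_eq_of_ringEquiv (eq j)]
    have := hNfin j
    have : Algebra.IsIntegral (Ω ⊗[D] C) (N j) := Algebra.IsIntegral.of_finite _ _
    exact (Groth.Agent.FlatA.DimFin.ringKrullDim_le_of_isIntegral (Ω ⊗[D] C) (N j)).trans
      (dim_tensor_le D K Ω C)
  · intro j
    exact isGood_of (y j) (g j) (huj j) Ω Subtype.val_injective (hdomΩ j) (hgood j)

end K142.Gen
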