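import Groth.Agent.EtAcyc.K142.GenNoeth

/-!
# Nonzerodivisors spread out
-/

set_option autoImplicit false
set_option linter.style.haveILetI false
universe u
open TensorProduct

namespace K142.GenNzd

/-- A nonzerodivisor on an algebra of finite type over a domain stays a nonzerodivisor after every base change,
once one nonzero element of the base is inverted. -/
theorem exists_nzd {B A : Type u} [CommRing B] [IsDomain B] [CommRing A] [Algebra B A] [Algebra.FiniteType B A]
    (f : A) (hf : ∀ z : A, f * z = 0 → z = 0) :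
    ∃ b : B, b ≠ 0 ∧ ∀ (E : Type u) [CommRing E] [Algebra B E], IsUnit (algebraMap B E b) →
      ∀ z : E ⊗[B] A, ((1 : E) ⊗ₜ[B] f) * z = 0 → z = 0 := by
  let u : A →ₗ[B] A := (LinearMap.mulLeft A f).restrictScalars B
  have hu : Function.Injective u := by
    rw [← LinearMap.ker_eq_bot, LinearMap.ker_eq_bot']
    intro z hz
    exact hf z hz
  let I : Submodule A A := Ideal.span {f}
  obtain ⟨b, hb, hM, -⟩ := Groth.Agent.S0389.result (R := B) (S := A) (M := A ⧸ I)
  refine ⟨b, hb, fun E _ _ hE => ?_⟩
  have h1 := K142.GenNoeth.inj_of_flat u hu (I.mkQ.restrictScalars B) (Submodule.mkQ_surjective I) (by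
    intro z
    change I.mkQ z = 0 ↔ _
    rw [Submodule.mkQ_apply, Submodule.Quotient.mk_eq_zero]
    change z ∈ Ideal.span {f} ↔ _
    rw [Ideal.mem_span_singleton']
    constructor
    · rintro ⟨a, rfl⟩
      exact ⟨a, mul_comm f a⟩
    · rintro ⟨a, rfl⟩
      exact ⟨a, mul_comm a f⟩) b inferInstance E hE
  have h2 : ∀ z : E ⊗[B] A, u.lTensor E z = ((1 : E) ⊗ₜ[B] f) * z := by
    intro z
    induction z using TensorProduct.induction_on with
    | zero => simp
    | add x y hx hy => rw [map_add, hx, hy, mul_add]
    | tmul e a =>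
      rw [LinearMap.lTensor_tmul, Algebra.TensorProduct.tmul_mul_tmul, one_mul]
      rfl
  intro z hz
  apply h1
  rw [h2, hz, map_zero]

end K142.GenNzd
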