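import Groth.Agent.EtAcyc.K142.GenUse
import Groth.Agent.EtAcyc.K168.NiceDef

/-!
# The output of the generic construction in the form `K168.NiceDef.GenData`
-/

set_option autoImplicit false
set_option linter.style.haveILetI false
universe u
open TensorProduct K168.NiceDef

namespace K142.Gen

theorem IsGood.pre {D1 A : Type u} [CommRing D1] [CommRing A] [Algebra D1 A] {m : ℕ} {y : Fin m → A}
    (h : IsGood D1 A y) : Pre D1 A y where
  finite := h.finite_aeval
  bc := fun E _ _ _ _ _ => h.hbc E

/-- The generic construction, in the form of `GenData`. -/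
theorem exists_gen (D C : Type u) [CommRing D] [IsDomain D] [IsNoetherianRing D] [CommRing C] [Algebra D C]
    [Algebra.FiniteType D C] :
    GenData D C (fun D₁ C₁ _ _ _ => ∃ (m : ℕ) (x : Fin m → C₁), Pre D₁ C₁ x ∧
      (m : WithBot ℕ∞) ≤ ringKrullDim (FractionRing D ⊗[D] C) ∧ (m = 1 → Algebra.Smooth D₁ C₁) ∧
      (m = 0 → Function.Bijective (algebraMap D₁ C₁))) := by
  obtain ⟨d, D1, iD1, aD1, aL, n, A, iA, aA, aT, m, y, hd, hdom, tow, hfin, hinj, htow, hTfin, hcov, hdim, hgood⟩ :=
    main D C
  have hd0 := powers_le_nonZeroDivisors_of_noZeroDivisors hd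
  have hinjD : Function.Injective (algebraMap D (Localization.Away d)) :=
    IsLocalization.injective (Localization.Away d) hd0
  have hft : Algebra.FiniteType D (Localization.Away d) := IsLocalization.finiteType_of_monoid_fg (Submonoid.powers d) _
  have hft1 : Algebra.FiniteType (Localization.Away d) D1 := inferInstance
  refine ⟨d, hd, D1, iD1, hdom, aD1, hft.trans hft1, ?_, ?_, ?_, n, A, iA, aA,
    fun j => algebraMap (D1 ⊗[D] C) (A j), ?_, ?_, ?_, ?_⟩
  · rw [IsScalarTower.algebraMap_eq D (Localization.Away d) D1]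
    exact hinj.comp hinjD
  · rw [IsScalarTower.algebraMap_apply D (Localization.Away d) D1]
    exact (IsLocalization.Away.algebraMap_isUnit d).map _
  · intro z
    have hz : IsIntegral (Localization.Away d) z := Algebra.IsIntegral.isIntegral z
    obtain ⟨⟨_, k, rfl⟩, hk⟩ := hz.exists_multiple_integral_of_isLocalization (Submonoid.powers d)
      (Rₘ := Localization.Away d) z
    refine ⟨k, ?_⟩
    rw [← map_pow, ← Algebra.smul_def]
    exact hk
  · intro j
    exact (IsScalarTower.algebraMap_eq D1 (D1 ⊗[D] C) (A j)).symm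
  · intro j
    exact RingHom.finite_algebraMap.2 (hTfin j)
  · intro p
    obtain ⟨j, Q', hQ'⟩ := hcov p
    exact ⟨j, Q', hQ'⟩
  · intro j
    exact ⟨m j, y j, (hgood j).pre, hdim j, (hgood j).smooth, (hgood j).bijective⟩

end K142.Gen
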