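import Groth.Agent.EtAcyc.K142.GenPairGeo
import Groth.Agent.EtAcyc.K142.GenPiece

/-!
# Generic smoothness of a pair in fibre codimension one
-/

set_option autoImplicit false
set_option linter.style.haveILetI false
universe u
open TensorProduct

namespace K142.GenPair

open K142.GenNoeth (psi)

/-- Smoothness of a principal localization transports along isomorphisms. -/
theorem smooth_away_equiv {E R1 R2 : Type u} [CommRing E] [CommRing R1] [CommRing R2] [Algebra E R1] [Algebra E R2]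
    (e : R1 ≃ₐ[E] R2) (r : R1) (h : Algebra.Smooth E (Localization.Away r)) :
    Algebra.Smooth E (Localization.Away (e r)) := by
  let e' : Localization.Away r ≃+* Localization.Away (e r) :=
    IsLocalization.ringEquivOfRingEquiv (M := Submonoid.powers r) (T := Submonoid.powers (e r)) _ _
      e.toRingEquiv (Submonoid.map_powers _ _)
  let e'' : Localization.Away r ≃ₐ[E] Localization.Away (e r) := AlgEquiv.ofRingEquiv (f := e') fun x => by
    rw [IsScalarTower.algebraMap_apply E R1 (Localization.Away r)]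
    change IsLocalization.ringEquivOfRingEquiv _ _ _ _ _ = _
    rw [IsLocalization.ringEquivOfRingEquiv_eq, IsScalarTower.algebraMap_apply E R2 (Localization.Away (e r))]
    congr 1
    exact e.commutes x
  exact Algebra.Smooth.of_equiv e''

/-- `E ⊗ A_f = (E ⊗ A)_{1 ⊗ f}`. -/
noncomputable def awayEquiv (B A E : Type u) [CommRing B] [CommRing A] [CommRing E] [Algebra B A] [Algebra B E]
    (f : A) : E ⊗[B] Localization.Away f ≃ₐ[E] Localization.Away ((1 : E) ⊗ₜ[B] f) :=
  haveI : IsLocalization ((Submonoid.powers f).map (Algebra.TensorProduct.includeRight (R := B) (A := E)))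
      (Localization.Away ((1 : E) ⊗ₜ[B] f)) := by
    rw [Submonoid.map_powers]
    exact inferInstanceAs (IsLocalization (Submonoid.powers ((1 : E) ⊗ₜ[B] f)) _)
  IsLocalization.tensorProductEquivOfMapIncludeRight B E (Submonoid.powers f) (Localization.Away f)
    (Localization.Away ((1 : E) ⊗ₜ[B] f))

/-- Generic smoothness of a principal localization. -/
theorem exists_smooth_away {B A : Type u} [CommRing B] [IsDomain B] [CommRing A] [Algebra B A]
    [Algebra.FinitePresentation B A] (Ω : Type u) [Field Ω] [Algebra B Ω]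
    (hinj : Function.Injective (algebraMap B Ω)) (f : A)
    (h : Algebra.Smooth Ω (Localization.Away ((1 : Ω) ⊗ₜ[B] f))) :
    ∃ b : B, b ≠ 0 ∧ ∀ (E : Type u) [CommRing E] [Algebra B E], IsUnit (algebraMap B E b) →
      Algebra.Smooth E (Localization.Away ((1 : E) ⊗ₜ[B] f)) := by
  have h1 : Algebra.Smooth Ω (Ω ⊗[B] Localization.Away f) := Algebra.Smooth.of_equiv (awayEquiv B A Ω f).symm
  have hfp1 : Algebra.FinitePresentation A (Localization.Away f) := IsLocalization.Away.finitePresentation f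
  have hfp : Algebra.FinitePresentation B (Localization.Away f) := Algebra.FinitePresentation.trans B A _
  obtain ⟨b, hb, h2⟩ := K142.GenSmooth.exists_smooth Ω hinj h1
  exact ⟨b, hb, fun E _ _ hE => by
    have := h2 E hE
    exact Algebra.Smooth.of_equiv (awayEquiv B A E f)⟩

theorem smooth_quot_iff {B A E : Type u} [CommRing B] [CommRing A] [CommRing E] [Algebra B A] [Algebra B E]
    (J : Ideal A) (f : A) :
    Algebra.Smooth E (Localization.Away (Ideal.Quotient.mk
      (J.map (Algebra.TensorProduct.includeRight : A →ₐ[B] E ⊗[B] A)) ((1 : E) ⊗ₜ[B] f))) ↔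
    Algebra.Smooth E (Localization.Away ((1 : E) ⊗ₜ[B] (Ideal.Quotient.mk J f) : E ⊗[B] (A ⧸ J))) := by
  have e1 : (Algebra.TensorProduct.tensorQuotientEquiv (R := B) E A E J) ((1 : E) ⊗ₜ[B] (Ideal.Quotient.mk J f)) =
      Ideal.Quotient.mk (J.map (Algebra.TensorProduct.includeRight : A →ₐ[B] E ⊗[B] A)) ((1 : E) ⊗ₜ[B] f) :=
    Algebra.TensorProduct.tensorQuotientEquiv_apply_tmul (R := B) E A E J 1 f
  have e2 : (Algebra.TensorProduct.tensorQuotientEquiv (R := B) E A E J).symm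
      (Ideal.Quotient.mk (J.map (Algebra.TensorProduct.includeRight : A →ₐ[B] E ⊗[B] A)) ((1 : E) ⊗ₜ[B] f)) =
      (1 : E) ⊗ₜ[B] (Ideal.Quotient.mk J f) := by
    rw [← e1, AlgEquiv.symm_apply_apply]
  constructor
  · intro h
    have := smooth_away_equiv (Algebra.TensorProduct.tensorQuotientEquiv (R := B) E A E J).symm _ h
    rwa [e2] at this
  · intro h
    have := smooth_away_equiv (Algebra.TensorProduct.tensorQuotientEquiv (R := B) E A E J) _ h
    rwa [e1] at this

/-- Generic smoothness of a principal localization of a quotient. -/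
theorem exists_smooth_away_quotient {B A : Type u} [CommRing B] [IsDomain B] [IsNoetherianRing B] [CommRing A]
    [Algebra B A] [Algebra.FiniteType B A] (Ω : Type u) [Field Ω] [Algebra B Ω]
    (hinj : Function.Injective (algebraMap B Ω)) (J : Ideal A) (f : A)
    (h : Algebra.Smooth Ω (Localization.Away (Ideal.Quotient.mk
      (J.map (Algebra.TensorProduct.includeRight : A →ₐ[B] Ω ⊗[B] A)) ((1 : Ω) ⊗ₜ[B] f)))) :
    ∃ b : B, b ≠ 0 ∧ ∀ (E : Type u) [CommRing E] [Algebra B E], IsUnit (algebraMap B E b) →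
      Algebra.Smooth E (Localization.Away (Ideal.Quotient.mk
        (J.map (Algebra.TensorProduct.includeRight : A →ₐ[B] E ⊗[B] A)) ((1 : E) ⊗ₜ[B] f))) := by
  have hfp : Algebra.FinitePresentation B (A ⧸ J) := Algebra.FinitePresentation.of_finiteType.1 inferInstance
  have h1 := smooth_quot_iff (B := B) (E := Ω) J f |>.1 h
  obtain ⟨b, hb, h2⟩ := exists_smooth_away (A := A ⧸ J) Ω hinj (Ideal.Quotient.mk J f) h1
  exact ⟨b, hb, fun E _ _ hE => (smooth_quot_iff (B := B) (E := E) J f).2 (h2 E hE)⟩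

/-- The ideal generated by a finite set in a base change. -/
theorem map_span_le {B A E : Type u} [CommRing B] [CommRing A] [CommRing E] [Algebra B A] [Algebra B E]
    (F : Finset A) (q : Ideal (E ⊗[B] A)) (h : ∀ f ∈ F, (1 : E) ⊗ₜ[B] f ∈ q) :
    (Ideal.span (F : Set A)).map (Algebra.TensorProduct.includeRight : A →ₐ[B] E ⊗[B] A) ≤ q := by
  rw [Ideal.map_le_iff_le_comap, Ideal.span_le]
  exact fun f hf => h f hf

/-- Codimension at least two spreads out. -/
theorem exists_codim {B A : Type u} [CommRing B] [IsDomain B] [IsNoetherianRing B] [CommRing A] [Algebra B A]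
    [Algebra.FiniteType B A] (Ω : Type u) [Field Ω] [Algebra B Ω] (hinj : Function.Injective (algebraMap B Ω))
    (m : ℕ) (hm : ringKrullDim (Ω ⊗[B] A) = m) (F : Finset A)
    (hF : ∀ q : Ideal (Ω ⊗[B] A), q.IsPrime → q.height ≤ 1 → ∃ f ∈ F, (1 : Ω) ⊗ₜ[B] f ∉ q) :
    ∃ b : B, b ≠ 0 ∧ ∀ (K : Type u) [Field K] [Algebra B K], IsUnit (algebraMap B K b) →
      IsDomain (K ⊗[B] A) → ringKrullDim (K ⊗[B] A) = m →
      ∀ q : Ideal (K ⊗[B] A), q.IsPrime → q.height ≤ 1 → ∃ f ∈ F, (1 : K) ⊗ₜ[B] f ∉ q := by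
  let I : Ideal A := Ideal.span (F : Set A)
  rcases subsingleton_or_nontrivial (Ω ⊗[B] (A ⧸ I)) with hsub | hnt
  · obtain ⟨s, hs, hs1⟩ := K142.GenCover.exists_torsion_geom Ω hinj (1 : A ⧸ I) (Subsingleton.elim _ _)
    refine ⟨s, hs, fun K _ _ hK _ _ q hq _ => ?_⟩
    by_contra hcon
    push Not at hcon
    have hle := map_span_le F q hcon
    have h1 : algebraMap B A s ∈ I := by
      rw [← Ideal.Quotient.eq_zero_iff_mem, ← hs1, Algebra.smul_def, mul_one]
      rfl
    have h2 : (1 : K) ⊗ₜ[B] (algebraMap B A s) ∈ q :=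
      hle (Ideal.mem_map_of_mem (Algebra.TensorProduct.includeRight : A →ₐ[B] K ⊗[B] A) h1)
    have h3 : (1 : K) ⊗ₜ[B] (algebraMap B A s) = algebraMap K (K ⊗[B] A) (algebraMap B K s) := by
      rw [Algebra.TensorProduct.algebraMap_apply, Algebra.algebraMap_self_apply,
        Algebra.algebraMap_eq_smul_one, Algebra.algebraMap_eq_smul_one, TensorProduct.smul_tmul]
    rw [h3] at h2
    exact hq.ne_top (Ideal.eq_top_of_isUnit_mem _ h2 (hK.map _))
  · let L := FractionRing B
    letI : Algebra L Ω := (IsFractionRing.lift hinj).toAlgebra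
    haveI : IsScalarTower B L Ω := .of_algebraMap_eq fun x => (IsFractionRing.lift_algebraMap hinj x).symm
    have hntL : Nontrivial (L ⊗[B] (A ⧸ I)) :=
      (Algebra.TensorProduct.map (IsScalarTower.toAlgHom B L Ω) (AlgHom.id B (A ⧸ I))).toRingHom.domain_nontrivial
    obtain ⟨m', y, g, hg, -, h⟩ := K142.GenNoeth.exists_noether (B := B) (A := A ⧸ I) L
    have hgΩ : IsUnit (algebraMap B Ω g) :=
      isUnit_iff_ne_zero.2 fun h => hg (hinj (by rw [h, map_zero]))
    have hdimq : ∀ (K : Type u) [Field K] [Algebra B K], IsUnit (algebraMap B K g) →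
        ringKrullDim ((K ⊗[B] A) ⧸ I.map (Algebra.TensorProduct.includeRight : A →ₐ[B] K ⊗[B] A)) = m' := by
      intro K _ _ hK
      rw [← K142.GenPiece.dim_of_psi y K (h K hK).1 (h K hK).2]
      exact ringKrullDim_eq_of_ringEquiv
        (Algebra.TensorProduct.tensorQuotientEquiv (R := B) K A K I).symm.toRingEquiv
    have hmm : m' + 2 ≤ m := by
      refine K142.GenPairGeo.dim_add_two_le (Ω ⊗[B] A) _ m m' hm (hdimq Ω hgΩ) fun q hq hle => ?_
      by_cases h1 : q.height ≤ 1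
      · obtain ⟨f, hf, hfq⟩ := hF q hq h1
        exact absurd (hle (Ideal.mem_map_of_mem (Algebra.TensorProduct.includeRight : A →ₐ[B] Ω ⊗[B] A)
          (Ideal.subset_span hf))) hfq
      · have h2 := Order.add_one_le_of_lt (not_le.1 h1)
        rwa [one_add_one_eq_two] at h2
    refine ⟨g, hg, fun K _ _ hK hdom hdimK q hq hqht => ?_⟩
    by_contra hcon
    push Not at hcon
    have hle := map_span_le F q hcon
    have h4 : ringKrullDim ((K ⊗[B] A) ⧸ q) ≤ m' := by
      rw [← hdimq K hK]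
      exact ringKrullDim_le_of_surjective (Ideal.Quotient.factor hle) (Ideal.Quotient.factor_surjective hle)
    have h5 := Groth.Agent.Ega4B.DimFT2.height_add_dim K (K ⊗[B] A) q
    have h6 : (m : WithBot ℕ∞) ≤ ((1 + m' : ℕ) : WithBot ℕ∞) := by
      rw [← hdimK, ← h5]
      push_cast
      exact add_le_add (by exact_mod_cast hqht) h4
    have h7 : m ≤ 1 + m' := by exact_mod_cast h6
    omega

/-- The inclusion `A → E ⊗ A`. -/
abbrev inc (B A E : Type u) [CommRing B] [CommRing A] [CommRing E] [Algebra B A] [Algebra B E] : A →ₐ[B] E ⊗[B] A :=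
  Algebra.TensorProduct.includeRight

/-- All the generic properties of a pair, from a form over `Ω`. -/
theorem exists_pair_of_form {B A N : Type u} [CommRing B] [IsDomain B] [IsNoetherianRing B] [CommRing A]
    [Algebra B A] [Algebra.FiniteType B A] [CommRing N] (Ω : Type u) [Field Ω] [Algebra B Ω] [Algebra Ω N]
    (hinj : Function.Injective (algebraMap B Ω)) (e : Ω ⊗[B] A ≃ₐ[Ω] N) (m : ℕ) (hm : ringKrullDim N = m)
    (I J : Ideal A) (F : Finset A) (IN JN : Ideal N) (hJN : JN = IN.radical)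
    (hI : (I.map (inc B A Ω)).map (e : Ω ⊗[B] A →+* N) = IN)
    (hJ : (J.map (inc B A Ω)).map (e : Ω ⊗[B] A →+* N) = JN)
    (hF1 : ∀ f ∈ F, Algebra.Smooth Ω (Localization.Away (e ((1 : Ω) ⊗ₜ[B] f))))
    (hF2 : ∀ f ∈ F, Algebra.Smooth Ω (Localization.Away (Ideal.Quotient.mk JN (e ((1 : Ω) ⊗ₜ[B] f)))))
    (hF3 : ∀ q : Ideal N, q.IsPrime → q.height ≤ 1 → ∃ f ∈ F, e ((1 : Ω) ⊗ₜ[B] f) ∉ q) :
    ∃ g : B, g ≠ 0 ∧
      (∀ (E : Type u) [CommRing E] [Algebra B E], IsUnit (algebraMap B E g) →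
        (∀ f ∈ F, Algebra.Smooth E (Localization.Away ((1 : E) ⊗ₜ[B] f))) ∧
        (∀ f ∈ F, Algebra.Smooth E (Localization.Away (Ideal.Quotient.mk (J.map (inc B A E))
          ((1 : E) ⊗ₜ[B] f)))) ∧
        J.map (inc B A E) ≤ (I.map (inc B A E)).radical) ∧
      (∀ (K : Type u) [Field K] [Algebra B K], IsUnit (algebraMap B K g) →
        IsDomain (K ⊗[B] A) → ringKrullDim (K ⊗[B] A) = m →
        ∀ q : Ideal (K ⊗[B] A), q.IsPrime → q.height ≤ 1 → ∃ f ∈ F, (1 : K) ⊗ₜ[B] f ∉ q) := by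
  classical
  have hfp : Algebra.FinitePresentation B A := Algebra.FinitePresentation.of_finiteType.1 inferInstance
  have hNA : IsNoetherianRing A := Algebra.FiniteType.isNoetherianRing B A
  -- smoothness
  have h1 : ∀ f : A, ∃ b : B, b ≠ 0 ∧ (f ∈ F → ∀ (E : Type u) [CommRing E] [Algebra B E],
      IsUnit (algebraMap B E b) → Algebra.Smooth E (Localization.Away ((1 : E) ⊗ₜ[B] f))) := by
    intro f
    by_cases hf : f ∈ F
    · have h2 := smooth_away_equiv e.symm _ (hF1 f hf)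
      rw [AlgEquiv.symm_apply_apply] at h2
      obtain ⟨b, hb, h3⟩ := exists_smooth_away Ω hinj f h2
      exact ⟨b, hb, fun _ => h3⟩
    · exact ⟨1, one_ne_zero, fun h => absurd h hf⟩
  have h2 : ∀ f : A, ∃ b : B, b ≠ 0 ∧ (f ∈ F → ∀ (E : Type u) [CommRing E] [Algebra B E],
      IsUnit (algebraMap B E b) → Algebra.Smooth E (Localization.Away (Ideal.Quotient.mk (J.map (inc B A E))
          ((1 : E) ⊗ₜ[B] f)))) := by
    intro f
    by_cases hf : f ∈ F
    · let eq : ((Ω ⊗[B] A) ⧸ (J.map (inc B A Ω))) ≃ₐ[Ω] N ⧸ JN := Ideal.quotientEquivAlg _ _ e hJ.symm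
      have h3 : eq.symm (Ideal.Quotient.mk JN (e ((1 : Ω) ⊗ₜ[B] f))) =
          Ideal.Quotient.mk (J.map (inc B A Ω)) ((1 : Ω) ⊗ₜ[B] f) := by
        rw [AlgEquiv.symm_apply_eq]
        rfl
      have h4 := smooth_away_equiv eq.symm _ (hF2 f hf)
      rw [h3] at h4
      obtain ⟨b, hb, h5⟩ := exists_smooth_away_quotient Ω hinj J f h4
      exact ⟨b, hb, fun _ => h5⟩
    · exact ⟨1, one_ne_zero, fun h => absurd h hf⟩
  -- the radical
  have h3 : ∃ b : B, b ≠ 0 ∧ ∀ (E : Type u) [CommRing E] [Algebra B E], IsUnit (algebraMap B E b) →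
      J.map (inc B A E) ≤ (I.map (inc B A E)).radical := by
    obtain ⟨G, hG⟩ := (IsNoetherian.noetherian J : J.FG)
    have h4 : ∀ x : A, ∃ (s : B) (k : ℕ), s ≠ 0 ∧ (x ∈ G → s • x ^ k ∈ I) := by
      intro x
      by_cases hx : x ∈ G
      · have hxJ : x ∈ J := hG ▸ Submodule.subset_span hx
        have h5 : e ((1 : Ω) ⊗ₜ[B] x) ∈ IN.radical := by
          rw [← hJN, ← hJ]
          exact Ideal.mem_map_of_mem _ (Ideal.mem_map_of_mem _ hxJ)
        obtain ⟨k, hk⟩ := h5
        have h6 : (1 : Ω) ⊗ₜ[B] (x ^ k) ∈ I.map (inc B A Ω) := by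
          rw [← map_pow, ← hI, Algebra.TensorProduct.tmul_pow, one_pow] at hk
          have h7 : (1 : Ω) ⊗ₜ[B] (x ^ k) ∈
              ((I.map (inc B A Ω)).map (e : Ω ⊗[B] A →+* N)).comap (e : Ω ⊗[B] A →+* N) := hk
          have h8 : ((I.map (inc B A Ω)).map (e : Ω ⊗[B] A →+* N)).comap (e : Ω ⊗[B] A →+* N) =
              I.map (inc B A Ω) := Ideal.comap_map_of_bijective (e : Ω ⊗[B] A →+* N) e.bijective
          rw [h8] at h7
          exact h7
        have h9 : (1 : Ω) ⊗ₜ[B] (Ideal.Quotient.mk I (x ^ k)) = 0 := by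
          apply (Algebra.TensorProduct.tensorQuotientEquiv (R := B) Ω A Ω I).injective
          rw [map_zero, Algebra.TensorProduct.tensorQuotientEquiv_apply_tmul]
          exact Ideal.Quotient.eq_zero_iff_mem.2 h6
        obtain ⟨s, hs, hs'⟩ := K142.GenCover.exists_torsion_geom Ω hinj _ h9
        refine ⟨s, k, hs, fun _ => ?_⟩
        rw [← Ideal.Quotient.eq_zero_iff_mem, ← hs']
        rfl
      · exact ⟨1, 0, one_ne_zero, fun h => absurd h hx⟩
    choose s k hs hk using h4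
    refine ⟨∏ x ∈ G, s x, Finset.prod_ne_zero_iff.2 fun a _ => hs a, fun E _ _ hE => ?_⟩
    have hu : ∀ a ∈ G, IsUnit (algebraMap B E (s a)) := fun a ha =>
      isUnit_of_dvd_unit (map_dvd _ (Finset.dvd_prod_of_mem s ha)) hE
    rw [Ideal.map_le_iff_le_comap, ← hG, Submodule.span_le]
    intro x hx
    refine ⟨k x, ?_⟩
    change ((1 : E) ⊗ₜ[B] x) ^ k x ∈ I.map (inc B A E)
    rw [Algebra.TensorProduct.tmul_pow, one_pow]
    have h5 : algebraMap E (E ⊗[B] A) (algebraMap B E (s x)) * ((1 : E) ⊗ₜ[B] (x ^ k x)) ∈ I.map (inc B A E) := by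
      have h6 : algebraMap E (E ⊗[B] A) (algebraMap B E (s x)) * ((1 : E) ⊗ₜ[B] (x ^ k x)) =
          inc B A E (s x • x ^ k x) := by
        change _ = (1 : E) ⊗ₜ[B] (s x • x ^ k x)
        rw [Algebra.TensorProduct.algebraMap_apply, Algebra.algebraMap_self_apply,
          Algebra.TensorProduct.tmul_mul_tmul, mul_one, one_mul, TensorProduct.tmul_smul,
          TensorProduct.smul_tmul', Algebra.smul_def, mul_one]
      rw [h6]
      exact Ideal.mem_map_of_mem _ (hk x hx)
    exact (Ideal.unit_mul_mem_iff_mem _ ((hu x hx).map (algebraMap E (E ⊗[B] A)))).1 h5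
  choose b1 hb1 hb1' using h1
  choose b2 hb2 hb2' using h2
  obtain ⟨b3, hb3, hb3'⟩ := h3
  obtain ⟨b4, hb4, hb4'⟩ := exists_codim (A := A) Ω hinj m (by
      rw [← hm]; exact ringKrullDim_eq_of_ringEquiv e.toRingEquiv) F (by
    intro q hq hqh
    obtain ⟨f, hf, hfq⟩ := hF3 (q.comap (e.symm : N →+* Ω ⊗[B] A)) (Ideal.comap_isPrime _ _) (by
      rw [show q.comap (e.symm : N →+* Ω ⊗[B] A) = q.comap e.symm.toRingEquiv from rfl,
        RingEquiv.height_comap]
      exact hqh)
    refine ⟨f, hf, fun h => hfq ?_⟩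
    change e.symm (e ((1 : Ω) ⊗ₜ[B] f)) ∈ q
    rw [AlgEquiv.symm_apply_apply]
    exact h)
  refine ⟨(∏ f ∈ F, b1 f) * (∏ f ∈ F, b2 f) * b3 * b4, mul_ne_zero (mul_ne_zero (mul_ne_zero
    (Finset.prod_ne_zero_iff.2 fun a _ => hb1 a) (Finset.prod_ne_zero_iff.2 fun a _ => hb2 a)) hb3) hb4,
    fun E _ _ hE => ⟨fun f hf => ?_, fun f hf => ?_, ?_⟩, fun K _ _ hK => ?_⟩
  · refine hb1' f hf E (isUnit_of_dvd_unit (map_dvd _ ?_) hE)
    exact (Finset.dvd_prod_of_mem b1 hf).trans ⟨(∏ f ∈ F, b2 f) * b3 * b4, by ring⟩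
  · refine hb2' f hf E (isUnit_of_dvd_unit (map_dvd _ ?_) hE)
    exact (Finset.dvd_prod_of_mem b2 hf).trans ⟨(∏ f ∈ F, b1 f) * b3 * b4, by ring⟩
  · exact hb3' E (isUnit_of_dvd_unit (map_dvd _ ⟨(∏ f ∈ F, b1 f) * (∏ f ∈ F, b2 f) * b4, by ring⟩) hE)
  · exact hb4' K (isUnit_of_dvd_unit (map_dvd _ ⟨(∏ f ∈ F, b1 f) * (∏ f ∈ F, b2 f) * b3, by ring⟩) hK)

end K142.GenPair
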