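import Mathlib
import Groth.Agent.CalgC.RegSmooth
import Groth.Agent.Ega4B.DimFT2

/-!
# Codimension one points of a normal variety and of a reduced closed subscheme

Over a perfect field `Ω`, let `N` be a normal domain of finite type and `J` a radical ideal.  At every prime of height
at most one both `N` and `N / J` are smooth over `Ω`.
-/

set_option autoImplicit false
set_option linter.style.haveILetI false
universe u

namespace K142.GenPairGeo

/-- The local rings of a Noetherian normal domain at primes of height at most one are Dedekind domains. -/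
theorem isDedekindDomain_atPrime (N : Type u) [CommRing N] [IsDomain N] [IsNoetherianRing N] [IsIntegrallyClosed N]
    (q : Ideal N) [q.IsPrime] (hq : q.height ≤ 1) : IsDedekindDomain (Localization.AtPrime q) := by
  have : IsDomain (Localization.AtPrime q) := inferInstance
  have : IsNoetherianRing (Localization.AtPrime q) :=
    IsLocalization.isNoetherianRing q.primeCompl (Localization.AtPrime q) inferInstance
  have : IsIntegrallyClosed (Localization.AtPrime q) :=
    isIntegrallyClosed_of_isLocalization (Localization.AtPrime q) q.primeCompl q.primeCompl_le_nonZeroDivisors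
  have hdim : ringKrullDim (Localization.AtPrime q) ≤ 1 := by
    rw [IsLocalization.AtPrime.ringKrullDim_eq_height q]
    exact_mod_cast hq
  have : Ring.KrullDimLE 1 (Localization.AtPrime q) := Ring.krullDimLE_iff.2 (by simpa using hdim)
  have : Ring.DimensionLEOne (Localization.AtPrime q) :=
    ⟨fun h1 h2 => Ring.krullDimLE_one_iff_of_noZeroDivisors.1 inferInstance _ h1 h2⟩
  exact {}

/-- A reduced local quotient of a local Dedekind domain is regular. -/
theorem isRegularLocalRing_of_surjective (R M : Type u) [CommRing R] [IsDedekindDomain R] [IsLocalRing R]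
    [CommRing M] [IsLocalRing M] [IsReduced M] (φ : R →+* M) (hφ : Function.Surjective φ) :
    IsRegularLocalRing M := by
  by_cases hK : RingHom.ker φ = ⊥
  · have : IsRegularLocalRing R := IsRegularLocalRing.of_isRegularRing_of_isLocalRing R
    exact IsRegularLocalRing.of_ringEquiv
      (RingEquiv.ofBijective φ ⟨(RingHom.injective_iff_ker_eq_bot φ).2 hK, hφ⟩)
  · have hrad : (RingHom.ker φ).IsRadical := by
      rintro x ⟨n, hn⟩
      rw [RingHom.mem_ker, map_pow] at hn
      exact (IsNilpotent.eq_zero ⟨n, hn⟩ : φ x = 0)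
    have hne : RingHom.ker φ ≠ ⊤ := RingHom.ker_ne_top φ
    have hmax : RingHom.ker φ = IsLocalRing.maximalIdeal R := by
      refine le_antisymm (IsLocalRing.le_maximalIdeal hne) ?_
      rw [← hrad.radical, Ideal.radical_eq_sInf]
      refine le_sInf fun P hP => ?_
      have hP' : P.IsPrime := hP.2
      have hPne : P ≠ ⊥ := fun h => hK (le_bot_iff.1 (h ▸ hP.1))
      have hPmax : P.IsMaximal := hP'.isMaximal hPne
      rw [IsLocalRing.eq_maximalIdeal hPmax]
    have hfield : IsField M := by
      have h1 : IsField (R ⧸ RingHom.ker φ) := by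
        rw [← Ideal.Quotient.maximal_ideal_iff_isField_quotient, hmax]
        infer_instance
      exact MulEquiv.isField h1 (RingHom.quotientKerEquivOfSurjective hφ).symm.toMulEquiv
    letI := hfield.toField
    exact (inferInstance : IsRegularLocalRing M)

theorem isSmoothAt_of_height_le_one (Ω N : Type u) [Field Ω] [PerfectField Ω] [CommRing N] [IsDomain N]
    [IsIntegrallyClosed N] [Algebra Ω N] [Algebra.FiniteType Ω N] (q : Ideal N) [q.IsPrime] (hq : q.height ≤ 1) :
    Algebra.IsSmoothAt Ω q := by
  have : IsNoetherianRing N := Algebra.FiniteType.isNoetherianRing Ω N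
  have := isDedekindDomain_atPrime N q hq
  exact (Groth.Agent.CalgC.RegSmooth.isSmoothAt_iff_isRegularLocalRing_of_perfectField q).2
    (IsRegularLocalRing.of_isRegularRing_of_isLocalRing _)

theorem isSmoothAt_quotient (Ω N : Type u) [Field Ω] [PerfectField Ω] [CommRing N] [IsDomain N]
    [IsIntegrallyClosed N] [Algebra Ω N] [Algebra.FiniteType Ω N] (J : Ideal N) (hJ : J.IsRadical)
    (p : Ideal (N ⧸ J)) [p.IsPrime] (hq : (p.comap (Ideal.Quotient.mk J)).height ≤ 1) :
    Algebra.IsSmoothAt Ω p := by
  have : IsNoetherianRing N := Algebra.FiniteType.isNoetherianRing Ω N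
  have := isDedekindDomain_atPrime N (p.comap (Ideal.Quotient.mk J)) hq
  have : IsReduced (N ⧸ J) := (Ideal.isRadical_iff_quotient_reduced J).1 hJ
  have hred : IsReduced (Localization.AtPrime p) := inferInstance
  refine (Groth.Agent.CalgC.RegSmooth.isSmoothAt_iff_isRegularLocalRing_of_perfectField p).2 ?_
  exact isRegularLocalRing_of_surjective (Localization.AtPrime (p.comap (Ideal.Quotient.mk J))) _
    (Localization.localRingHom _ p (Ideal.Quotient.mk J) rfl)
    (RingHom.surjectiveOnStalks_of_surjective Ideal.Quotient.mk_surjective p inferInstance)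

/-- A finite family of functions, with smooth non-vanishing loci, which do not vanish simultaneously at any point of
codimension at most one. -/
theorem exists_smooth_cover (Ω N : Type u) [Field Ω] [PerfectField Ω] [CommRing N] [IsDomain N]
    [IsIntegrallyClosed N] [Algebra Ω N] [Algebra.FiniteType Ω N] (J : Ideal N) (hJ : J.IsRadical) :
    ∃ F : Finset N, (∀ f ∈ F, Algebra.Smooth Ω (Localization.Away f) ∧
        Algebra.Smooth Ω (Localization.Away (Ideal.Quotient.mk J f))) ∧
      ∀ q : Ideal N, q.IsPrime → q.height ≤ 1 → ∃ f ∈ F, f ∉ q := by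
  have : IsNoetherianRing N := Algebra.FiniteType.isNoetherianRing Ω N
  have hfp : Algebra.FinitePresentation Ω N := Algebra.FinitePresentation.of_finiteType.1 inferInstance
  have hfp' : Algebra.FinitePresentation Ω (N ⧸ J) := Algebra.FinitePresentation.of_finiteType.1 inferInstance
  obtain ⟨a, ha⟩ := (PrimeSpectrum.isClosed_iff_zeroLocus_ideal _).1
    (Algebra.isOpen_smoothLocus (R := Ω) (A := N)).isClosed_compl
  obtain ⟨b, hb⟩ := (PrimeSpectrum.isClosed_iff_zeroLocus_ideal _).1
    (Algebra.isOpen_smoothLocus (R := Ω) (A := N ⧸ J)).isClosed_compl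
  obtain ⟨F, hF⟩ := (IsNoetherian.noetherian (a ⊓ b.comap (Ideal.Quotient.mk J)) :
    (a ⊓ b.comap (Ideal.Quotient.mk J)).FG)
  have hFm : ∀ f ∈ F, f ∈ a ∧ Ideal.Quotient.mk J f ∈ b := fun f hf => by
    have h1 : f ∈ a ⊓ b.comap (Ideal.Quotient.mk J) := hF ▸ Submodule.subset_span hf
    exact h1
  refine ⟨F, fun f hf => ⟨?_, ?_⟩, fun q hq hht => ?_⟩
  · refine (Algebra.basicOpen_subset_smoothLocus_iff_smooth).1 fun q hq => ?_
    by_contra hn
    have h5 : q ∈ PrimeSpectrum.zeroLocus (a : Set N) := ha ▸ hn
    exact hq (h5 (hFm f hf).1)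
  · refine (Algebra.basicOpen_subset_smoothLocus_iff_smooth).1 fun q hq => ?_
    by_contra hn
    have h5 : q ∈ PrimeSpectrum.zeroLocus (b : Set (N ⧸ J)) := hb ▸ hn
    exact hq (h5 (hFm f hf).2)
  · by_contra hcon
    push Not at hcon
    have hle : a ⊓ b.comap (Ideal.Quotient.mk J) ≤ q := by
      rw [← hF, Submodule.span_le]
      exact fun f hf => hcon f hf
    rcases (Ideal.IsPrime.inf_le hq).1 hle with h | h
    · have h1 : (⟨q, hq⟩ : PrimeSpectrum N) ∈ Algebra.smoothLocus Ω N := isSmoothAt_of_height_le_one Ω N q hht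
      have h2 : (⟨q, hq⟩ : PrimeSpectrum N) ∈ (Algebra.smoothLocus Ω N)ᶜ := by
        rw [ha]; exact h
      exact h2 h1
    · have hJq : J ≤ q := le_trans (fun x hx => by
        change Ideal.Quotient.mk J x ∈ b
        rw [Ideal.Quotient.eq_zero_iff_mem.2 hx]
        exact b.zero_mem) h
      let p : PrimeSpectrum (N ⧸ J) := ⟨q.map (Ideal.Quotient.mk J),
        Ideal.map_isPrime_of_surjective Ideal.Quotient.mk_surjective (by rwa [Ideal.mk_ker])⟩
      have hpc : p.asIdeal.comap (Ideal.Quotient.mk J) = q := by
        change (q.map (Ideal.Quotient.mk J)).comap (Ideal.Quotient.mk J) = q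
        rw [Ideal.comap_map_of_surjective' _ Ideal.Quotient.mk_surjective, Ideal.mk_ker]
        exact sup_eq_left.2 hJq
      have hpp : p.asIdeal.IsPrime := p.isPrime
      have h1 : p ∈ Algebra.smoothLocus Ω (N ⧸ J) :=
        isSmoothAt_quotient Ω N J hJ p.asIdeal (by rw [hpc]; exact hht)
      have h2 : p ∈ (Algebra.smoothLocus Ω (N ⧸ J))ᶜ := by
        rw [hb, PrimeSpectrum.mem_zeroLocus]
        intro x hx
        obtain ⟨z, rfl⟩ := Ideal.Quotient.mk_surjective x
        exact Ideal.mem_map_of_mem _ (h hx)
      exact h2 h1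

/-- A closed subset of codimension at least two has dimension at most `dim - 2`. -/
theorem dim_add_two_le (N : Type u) [CommRing N] (I : Ideal N) (m m' : ℕ) (hN : ringKrullDim N = m)
    (hI : ringKrullDim (N ⧸ I) = m') (h : ∀ q : Ideal N, q.IsPrime → I ≤ q → 2 ≤ q.height) : m' + 2 ≤ m := by
  have h1 : (m' : WithBot ℕ∞) ≤ Order.krullDim (PrimeSpectrum (N ⧸ I)) := by rw [← hI]; rfl
  obtain ⟨l, hl⟩ := Order.le_krullDim_iff.1 h1
  let φ : PrimeSpectrum (N ⧸ I) → PrimeSpectrum N := PrimeSpectrum.comap (Ideal.Quotient.mk I)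
  have hφ : StrictMono φ := by
    intro p q hpq
    refine lt_of_le_of_ne (Ideal.comap_mono hpq.le) fun heq => hpq.ne ?_
    exact PrimeSpectrum.comap_injective_of_surjective _ Ideal.Quotient.mk_surjective heq
  let l' : LTSeries (PrimeSpectrum N) := l.map φ hφ
  have hhead : I ≤ l'.head.asIdeal := by
    intro x hx
    change Ideal.Quotient.mk I x ∈ l.head.asIdeal
    rw [Ideal.Quotient.eq_zero_iff_mem.2 hx]
    exact Ideal.zero_mem _
  have h2 : (2 : ℕ∞) ≤ Order.height l'.head := by
    have := h l'.head.asIdeal l'.head.isPrime hhead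
    rwa [PrimeSpectrum.height_eq_orderHeight] at this
  obtain ⟨p, hp1, hp2⟩ := Order.exists_series_of_le_height l'.head (n := 2) h2
  have h3 := Order.LTSeries.length_le_krullDim (p.smash l' hp1)
  have h4 : (p.smash l' hp1).length = m' + 2 := by
    simp [RelSeries.smash, hp2, l', hl, add_comm]
  rw [h4] at h3
  have h5 : ((m' + 2 : ℕ) : WithBot ℕ∞) ≤ (m : WithBot ℕ∞) := by
    rw [← hN]; exact h3
  exact_mod_cast h5

end K142.GenPairGeo
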