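import Groth.Agent.EtAcyc.K142.GenMain
import Groth.Agent.EtAcyc.K142.GenPair
import Groth.Agent.EtAcyc.K142.GenDesc2

/-!
# The generic construction for a pair

The generic construction `K142.Gen.main` together with a closed subset `V(I)`: the pieces `A j` and the closed
subschemes `A j / J j`, with the same support as `V(I)`, are smooth over the base at all points of codimension at most
one in their fibres.
-/

set_option autoImplicit false
set_option linter.style.haveILetI false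
universe u
open TensorProduct

namespace K142.Gen

open K142.GenNoeth (psi)
open K142.GenPair (inc)

/-- The properties of the pairs of the generic construction. -/
structure IsGoodPair (D1 A : Type u) [CommRing D1] [CommRing A] [Algebra D1 A] (I J : Ideal A) (S : Finset A) :
    Prop where
  le : I ≤ J
  le_radical : J ≤ I.radical
  smooth : ∀ f ∈ S, Algebra.Smooth D1 (Localization.Away f)
  smooth_quotient : ∀ f ∈ S, Algebra.Smooth D1 (Localization.Away (Ideal.Quotient.mk J f))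
  codim : ∀ (K : Type u) [Field K] [Algebra D1 K] (q : Ideal (K ⊗[D1] A)), q.IsPrime → q.height ≤ 1 →
    ∃ f ∈ S, (1 : K) ⊗ₜ[D1] f ∉ q

theorem isGoodPair_of {B D1 A : Type u} [CommRing B] [CommRing D1] [CommRing A] [Algebra B A] [Algebra B D1]
    {m : ℕ} (y : Fin m → A) (g g' : B) (hu : IsUnit (algebraMap B D1 g)) (hu' : IsUnit (algebraMap B D1 g'))
    (h : ∀ (E : Type u) [CommRing E] [Algebra B E], IsUnit (algebraMap B E g) →
        Module.Flat E (E ⊗[B] A) ∧
        (IsDomain E → IsIntegrallyClosed E → IsDomain (E ⊗[B] A) ∧ IsIntegrallyClosed (E ⊗[B] A)) ∧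
        Function.Injective (psi B y E) ∧ (psi B y E).toRingHom.Finite ∧
        (m = 1 → Algebra.Smooth E (E ⊗[B] A)) ∧
        (m = 0 → Function.Bijective (algebraMap E (E ⊗[B] A))))
    (I J : Ideal A) (hIJ : I ≤ J) (F : Finset A) (S : Finset (D1 ⊗[B] A))
    (hS : ∀ z, z ∈ S ↔ ∃ f ∈ F, (1 : D1) ⊗ₜ[B] f = z)
    (h' : (∀ (E : Type u) [CommRing E] [Algebra B E], IsUnit (algebraMap B E g') →
        (∀ f ∈ F, Algebra.Smooth E (Localization.Away ((1 : E) ⊗ₜ[B] f))) ∧
        (∀ f ∈ F, Algebra.Smooth E (Localization.Away (Ideal.Quotient.mk (J.map (inc B A E))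
          ((1 : E) ⊗ₜ[B] f)))) ∧
        J.map (inc B A E) ≤ (I.map (inc B A E)).radical) ∧
      (∀ (K : Type u) [Field K] [Algebra B K], IsUnit (algebraMap B K g') →
        IsDomain (K ⊗[B] A) → ringKrullDim (K ⊗[B] A) = m →
        ∀ q : Ideal (K ⊗[B] A), q.IsPrime → q.height ≤ 1 → ∃ f ∈ F, (1 : K) ⊗ₜ[B] f ∉ q)) :
    IsGoodPair D1 (D1 ⊗[B] A) (I.map (inc B A D1)) (J.map (inc B A D1)) S := by
  obtain ⟨h1, h2⟩ := h'
  obtain ⟨h3, h4, h5⟩ := h1 D1 hu'
  refine ⟨Ideal.map_mono hIJ, h5, fun z hz => ?_, fun z hz => ?_, fun K _ _ q hq hqh => ?_⟩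
  · obtain ⟨f, hf, rfl⟩ := (hS z).1 hz
    exact h3 f hf
  · obtain ⟨f, hf, rfl⟩ := (hS z).1 hz
    exact h4 f hf
  · letI : Algebra B K := ((algebraMap D1 K).comp (algebraMap B D1)).toAlgebra
    haveI : IsScalarTower B D1 K := .of_algebraMap_eq fun _ => rfl
    have hK : IsUnit (algebraMap B K g) := hu.map (algebraMap D1 K)
    have hK' : IsUnit (algebraMap B K g') := hu'.map (algebraMap D1 K)
    let e : K ⊗[D1] (D1 ⊗[B] A) ≃ₐ[K] K ⊗[B] A := Algebra.TensorProduct.cancelBaseChange B D1 K K A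
    obtain ⟨-, h6, h7, h8, -⟩ := h K hK
    obtain ⟨f, hf, hfq⟩ := h2 K hK' (h6 inferInstance inferInstance).1 (K142.GenPiece.dim_of_psi y K h7 h8)
      (q.comap (e.symm : K ⊗[B] A →+* K ⊗[D1] (D1 ⊗[B] A))) (Ideal.comap_isPrime _ _) (by
        rw [show q.comap (e.symm : K ⊗[B] A →+* K ⊗[D1] (D1 ⊗[B] A)) = q.comap e.symm.toRingEquiv from rfl,
          RingEquiv.height_comap]
        exact hqh)
    refine ⟨(1 : D1) ⊗ₜ[B] f, (hS _).2 ⟨f, hf, rfl⟩, fun hmem => hfq ?_⟩
    change e.symm ((1 : K) ⊗ₜ[B] f) ∈ q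
    rw [Algebra.TensorProduct.cancelBaseChange_symm_tmul]
    exact hmem

/-- The generic construction for a pair. -/
theorem main_pair (D C : Type u) [CommRing D] [IsDomain D] [IsNoetherianRing D] [CommRing C] [Algebra D C]
    [Algebra.FiniteType D C] (I0 : Ideal C) :
    ∃ (d : D) (D1 : Type u) (_ : CommRing D1) (_ : Algebra D D1) (_ : Algebra (Localization.Away d) D1)
      (n : ℕ) (A : Fin n → Type u) (_ : ∀ j, CommRing (A j)) (_ : ∀ j, Algebra D1 (A j))
      (_ : ∀ j, Algebra (D1 ⊗[D] C) (A j)) (m : Fin n → ℕ) (y : ∀ j, Fin (m j) → A j)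
      (J : ∀ j, Ideal (A j)) (S : ∀ j, Finset (A j)),
      d ≠ 0 ∧ IsDomain D1 ∧ IsScalarTower D (Localization.Away d) D1 ∧
      Module.Finite (Localization.Away d) D1 ∧ Function.Injective (algebraMap (Localization.Away d) D1) ∧
      (∀ j, IsScalarTower D1 (D1 ⊗[D] C) (A j)) ∧ (∀ j, Module.Finite (D1 ⊗[D] C) (A j)) ∧
      (∀ Q : PrimeSpectrum (D1 ⊗[D] C), ∃ (j : Fin n) (Q' : PrimeSpectrum (A j)),
        PrimeSpectrum.comap (algebraMap (D1 ⊗[D] C) (A j)) Q' = Q) ∧
      (∀ j, ((m j : ℕ) : WithBot ℕ∞) ≤ ringKrullDim (FractionRing D ⊗[D] C)) ∧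
      (∀ j, IsGood D1 (A j) (y j)) ∧
      ∀ j, IsGoodPair D1 (A j) (I0.map ((algebraMap (D1 ⊗[D] C) (A j)).comp
        (Algebra.TensorProduct.includeRight : C →ₐ[D] D1 ⊗[D] C).toRingHom)) (J j) (S j) := by
  classical
  let K := FractionRing D
  let Ω := AlgebraicClosure K
  have hDK : Function.Injective (algebraMap D K) := IsFractionRing.injective D K
  have hinj : Function.Injective (algebraMap D Ω) := by
    rw [IsScalarTower.algebraMap_eq D K Ω]
    exact (algebraMap K Ω).injective.comp hDK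
  have hDKalg : Algebra.IsAlgebraic D K := IsLocalization.isAlgebraic K (nonZeroDivisors D)
  have hDΩ : Algebra.IsAlgebraic D Ω := Algebra.IsAlgebraic.trans D K Ω
  have hR : IsNoetherianRing (Ω ⊗[D] C) := Algebra.FiniteType.isNoetherianRing Ω _
  obtain ⟨n, N, iN, aN, hNfin, hNdom, hNic, hNnil⟩ := K142.GenCover.exists_normalizations Ω (Ω ⊗[D] C)
  letI aΩN : ∀ j, Algebra Ω (N j) := fun j => ((algebraMap (Ω ⊗[D] C) (N j)).comp
    (Algebra.TensorProduct.includeLeftRingHom : Ω →+* Ω ⊗[D] C)).toAlgebra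
  haveI tΩN : ∀ j, IsScalarTower Ω (Ω ⊗[D] C) (N j) := fun j => .of_algebraMap_eq fun _ => rfl
  have hNft : ∀ j, Algebra.FiniteType Ω (N j) := fun j => by
    have h1 : Algebra.FiniteType Ω (Ω ⊗[D] C) := inferInstance
    have h2 : Algebra.FiniteType (Ω ⊗[D] C) (N j) := inferInstance
    exact Algebra.FiniteType.trans h1 h2
  have hNN : ∀ j, IsNoetherianRing (N j) := fun j => Algebra.FiniteType.isNoetherianRing Ω _
  let IN : ∀ j, Ideal (N j) := fun j => I0.map ((algebraMap (Ω ⊗[D] C) (N j)).comp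
    (Algebra.TensorProduct.includeRight : C →ₐ[D] Ω ⊗[D] C).toRingHom)
  choose FN hFN hFN' using fun j => K142.GenPairGeo.exists_smooth_cover Ω (N j) (IN j).radical
    (Ideal.radical_isRadical _)
  choose GN hGN using fun j => (IsNoetherian.noetherian (IN j).radical : (IN j).radical.FG)
  choose s hs using fun j => exists_form2 (D := D) (Ω := Ω) (C := C) (N j) (FN j ∪ GN j)
  obtain ⟨W, hW⟩ := K142.GenBase.exists_finset (D := D) (Ω := Ω) (C := C) (Finset.univ.biUnion s)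
  obtain ⟨d0, hd0, hWint⟩ := K142.GenBase.exists_integral_data (D := D) (Ω := Ω) W
  let B : Subalgebra D Ω := K142.GenBase.sub d0 W
  have hBs : ∀ j, ∀ x ∈ s j, x ∈ (bcMap D Ω C B).range := fun j x hx =>
    hW B (K142.GenBase.subset_sub d0 W) x (Finset.mem_biUnion.2 ⟨j, Finset.mem_univ j, hx⟩)
  have hBft : Algebra.FiniteType D B := by
    have h1 : B.FG := ⟨insert (algebraMap D Ω d0)⁻¹ W, by rw [Finset.coe_insert]; rfl⟩
    exact (Subalgebra.fg_iff_finiteType _).1 h1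
  have hBN : IsNoetherianRing B := Algebra.FiniteType.isNoetherianRing D B
  have hBinj : Function.Injective (algebraMap B Ω) := Subtype.val_injective
  choose NB iNB aTNB aBNB tNB ι e hι hιc hfin he hbij hmark using fun j => hs j B (hBs j)
  have hTN : IsNoetherianRing (B ⊗[D] C) := Algebra.FiniteType.isNoetherianRing B _
  have hNBft : ∀ j, Algebra.FiniteType B (NB j) := fun j => by
    have h1 : Algebra.FiniteType B (B ⊗[D] C) := inferInstance
    have h2 : Algebra.FiniteType (B ⊗[D] C) (NB j) := inferInstance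
    exact Algebra.FiniteType.trans h1 h2
  let eq : ∀ j, Ω ⊗[B] NB j ≃+* N j := fun j => RingEquiv.ofBijective (e j) (hbij j)
  have hdomΩ : ∀ j, IsDomain (Ω ⊗[B] NB j) := fun j => (eq j).toMulEquiv.isDomain _
  have hicΩ : ∀ j, IsIntegrallyClosed (Ω ⊗[B] NB j) := fun j => IsIntegrallyClosed.of_equiv (eq j).symm
  choose m y g hg hmdim hgood using fun j =>
    K142.GenPiece.exists_piece (B := B) (A := NB j) Ω hBinj (hdomΩ j) (hicΩ j)
  have heC : ∀ j (ω : Ω), eq j (algebraMap Ω (Ω ⊗[B] NB j) ω) = algebraMap Ω (N j) ω := fun j ω => by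
    change e j (ω ⊗ₜ 1) = _
    rw [he, map_one, mul_one]
    rfl
  let eA : ∀ j, Ω ⊗[B] NB j ≃ₐ[Ω] N j := fun j => AlgEquiv.ofRingEquiv (f := eq j) (heC j)
  have heA : ∀ j (n : NB j), eA j ((1 : Ω) ⊗ₜ[B] n) = ι j n := fun j n => by
    change e j (1 ⊗ₜ n) = _
    rw [he, show ((1 : Ω) ⊗ₜ[D] (1 : C)) = 1 from rfl, map_one, one_mul]
  have hpre : ∀ j (z : N j), ∃ n : NB j, z ∈ FN j ∪ GN j → ι j n = z := fun j z => by
    by_cases hz : z ∈ FN j ∪ GN j
    · obtain ⟨n, hn⟩ := hmark j z hz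
      exact ⟨n, fun _ => hn⟩
    · exact ⟨0, fun h => absurd h hz⟩
  choose pre hpre using hpre
  have hdimN : ∀ j, ringKrullDim (N j) = m j := fun j => by
    rw [← hmdim j, ringKrullDim_eq_of_ringEquiv (eq j)]
  let IB : ∀ j, Ideal (NB j) := fun j => I0.map ((algebraMap (B ⊗[D] C) (NB j)).comp
    (Algebra.TensorProduct.includeRight : C →ₐ[D] B ⊗[D] C).toRingHom)
  let JB : ∀ j, Ideal (NB j) := fun j => IB j ⊔ Ideal.span ((GN j).image (pre j) : Finset (NB j))
  let FB : ∀ j, Finset (NB j) := fun j => (FN j).image (pre j)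
  have hIB : ∀ j, ((IB j).map (inc B (NB j) Ω)).map (eA j : Ω ⊗[B] NB j →+* N j) = IN j := fun j => by
    have h1 : ((eA j : Ω ⊗[B] NB j →+* N j).comp (inc B (NB j) Ω).toRingHom).comp
        ((algebraMap (B ⊗[D] C) (NB j)).comp
          (Algebra.TensorProduct.includeRight : C →ₐ[D] B ⊗[D] C).toRingHom) =
        (algebraMap (Ω ⊗[D] C) (N j)).comp
          (Algebra.TensorProduct.includeRight : C →ₐ[D] Ω ⊗[D] C).toRingHom := by
      refine RingHom.ext fun c => ?_
      change eA j ((1 : Ω) ⊗ₜ[B] (algebraMap (B ⊗[D] C) (NB j) (1 ⊗ₜ c))) =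
        algebraMap (Ω ⊗[D] C) (N j) (1 ⊗ₜ c)
      rw [heA, hιc]
      change algebraMap (Ω ⊗[D] C) (N j) (algebraMap B Ω 1 ⊗ₜ c) = _
      rw [map_one]
    change ((I0.map _).map (inc B (NB j) Ω).toRingHom).map (eA j : Ω ⊗[B] NB j →+* N j) = _
    rw [Ideal.map_map, Ideal.map_map, h1]
  have hJB : ∀ j, ((JB j).map (inc B (NB j) Ω)).map (eA j : Ω ⊗[B] NB j →+* N j) = (IN j).radical := fun j => by
    have h1 : (JB j).map (inc B (NB j) Ω) = (IB j).map (inc B (NB j) Ω) ⊔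
        (Ideal.span ((GN j).image (pre j) : Finset (NB j))).map (inc B (NB j) Ω) := Ideal.map_sup _ _ _
    rw [h1, Ideal.map_sup, hIB, Ideal.map_span, Ideal.map_span]
    have h2 : (eA j : Ω ⊗[B] NB j →+* N j) '' ((inc B (NB j) Ω) '' (((GN j).image (pre j) : Finset (NB j)) :
        Set (NB j))) = (GN j : Set (N j)) := by
      ext z
      constructor
      · rintro ⟨_, ⟨n, hn, rfl⟩, rfl⟩
        obtain ⟨w, hw, rfl⟩ := Finset.mem_image.1 (Finset.mem_coe.1 hn)
        have h3 : (eA j : Ω ⊗[B] NB j →+* N j) ((inc B (NB j) Ω) (pre j w)) = w := by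
          change eA j ((1 : Ω) ⊗ₜ[B] (pre j w)) = w
          rw [heA, hpre j w (Finset.mem_union_right _ hw)]
        rw [h3]
        exact hw
      · intro hz
        refine ⟨_, ⟨pre j z, Finset.mem_coe.2 (Finset.mem_image_of_mem _ hz), rfl⟩, ?_⟩
        change eA j ((1 : Ω) ⊗ₜ[B] (pre j z)) = z
        rw [heA, hpre j z (Finset.mem_union_right _ hz)]
    rw [h2]
    have h4 : Ideal.span (GN j : Set (N j)) = (IN j).radical := hGN j
    rw [h4]
    exact sup_eq_right.2 Ideal.le_radical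
  have hFB : ∀ j, ∀ f ∈ FB j, ∃ w ∈ FN j, eA j ((1 : Ω) ⊗ₜ[B] f) = w := fun j f hf => by
    obtain ⟨w, hw, rfl⟩ := Finset.mem_image.1 hf
    exact ⟨w, hw, by rw [heA, hpre j w (Finset.mem_union_left _ hw)]⟩
  choose gp hgp hgp' hgp'' using fun j => K142.GenPair.exists_pair_of_form Ω hBinj (eA j) (m j) (hdimN j)
    (IB j) (JB j) (FB j) (IN j) (IN j).radical rfl (hIB j) (hJB j)
    (fun f hf => by
      obtain ⟨w, hw, h⟩ := hFB j f hf
      rw [h]; exact (hFN j w hw).1)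
    (fun f hf => by
      obtain ⟨w, hw, h⟩ := hFB j f hf
      rw [h]; exact (hFN j w hw).2)
    (fun q hq hqh => by
      obtain ⟨w, hw, hwq⟩ := hFN' j q hq hqh
      refine ⟨pre j w, Finset.mem_image_of_mem _ hw, ?_⟩
      rw [heA, hpre j w (Finset.mem_union_left _ hw)]
      exact hwq)
  obtain ⟨g0, hg0, hcov⟩ := K142.GenCover.exists_cover (B := B) (T := B ⊗[D] C) Ω hBinj NB (by
    intro x hx
    have h1 : IsNilpotent (bcMap D Ω C B x) := by
      apply hNnil
      intro j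
      rw [← hιc j, hx j, map_zero]
    have h2 : IsNilpotent ((Algebra.TensorProduct.cancelBaseChange D B Ω Ω C) ((1 : Ω) ⊗ₜ[B] x)) := by
      rw [cancel_bcMap]
      exact h1
    exact (IsNilpotent.map_iff (Algebra.TensorProduct.cancelBaseChange D B Ω Ω C).injective).1 h2)
  have hg' : g0 * ∏ j, (g j * gp j) ≠ 0 :=
    mul_ne_zero hg0 (Finset.prod_ne_zero_iff.2 fun j _ => mul_ne_zero (hg j) (hgp j))
  obtain ⟨d, hd, hdvd, hunit⟩ := K142.GenBase.exists_isUnit hinj hd0 W (g0 * ∏ j, (g j * gp j)) hg'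
  have hle := K142.GenBase.sub_mono hinj hd hdvd W
  let D1 : Subalgebra D Ω := K142.GenBase.sub d W
  obtain ⟨algD1, towD1, finD1, injD1⟩ := K142.GenBase.finite_sub hinj hd W (fun w hw => by
    obtain ⟨m, hm, hmi⟩ := hWint w hw
    exact ⟨m, hm.trans hdvd, hmi⟩)
  letI aBD1 : Algebra B D1 := (Subalgebra.inclusion hle).toRingHom.toAlgebra
  haveI tDBD1 : IsScalarTower D B D1 := .of_algebraMap_eq fun _ => rfl
  haveI tBD1Ω : IsScalarTower B D1 Ω := .of_algebraMap_eq fun _ => rfl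
  have hug : IsUnit (algebraMap B D1 (g0 * ∏ j, (g j * gp j))) := hunit hle
  have hu0 : IsUnit (algebraMap B D1 g0) := isUnit_of_dvd_unit (map_dvd _ (dvd_mul_right _ _)) hug
  have hujj : ∀ j, IsUnit (algebraMap B D1 (g j * gp j)) := fun j =>
    isUnit_of_dvd_unit (map_dvd _ (dvd_mul_of_dvd_right
      (Finset.dvd_prod_of_mem (fun j => g j * gp j) (Finset.mem_univ j)) _)) hug
  have huj : ∀ j, IsUnit (algebraMap B D1 (g j)) := fun j =>
    isUnit_of_dvd_unit (map_dvd _ (dvd_mul_right _ _)) (hujj j)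
  have hupj : ∀ j, IsUnit (algebraMap B D1 (gp j)) := fun j =>
    isUnit_of_dvd_unit (map_dvd _ (dvd_mul_left _ _)) (hujj j)
  let ε : D1 ⊗[B] (B ⊗[D] C) ≃ₐ[D1] D1 ⊗[D] C := Algebra.TensorProduct.cancelBaseChange D B D1 D1 C
  let μ : ∀ j, D1 ⊗[B] (B ⊗[D] C) →ₐ[D1] D1 ⊗[B] NB j := fun j =>
    Algebra.TensorProduct.map (AlgHom.id D1 D1) (IsScalarTower.toAlgHom B (B ⊗[D] C) (NB j))
  letI aTA : ∀ j, Algebra (D1 ⊗[D] C) (D1 ⊗[B] NB j) := fun j =>
    ((μ j).toRingHom.comp ε.symm.toAlgHom.toRingHom).toAlgebra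
  refine ⟨d, D1, inferInstance, inferInstance, algD1, n, fun j => D1 ⊗[B] NB j, fun j => inferInstance,
    fun j => inferInstance, aTA, m, fun j i => (1 : D1) ⊗ₜ[B] y j i, fun j => (JB j).map (inc B (NB j) D1),
    fun j => (FB j).image (fun f => (1 : D1) ⊗ₜ[B] f), hd, inferInstance, towD1, finD1, injD1,
    ?_, ?_, ?_, ?_, ?_, ?_⟩
  · intro j
    refine .of_algebraMap_eq fun x => ?_
    change _ = μ j (ε.symm (algebraMap D1 (D1 ⊗[D] C) x))
    rw [AlgEquiv.commutes, AlgHom.commutes]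
  · intro j
    have h1 : ((μ j).toRingHom.comp ε.symm.toAlgHom.toRingHom).Finite :=
      RingHom.Finite.comp (finite_map B (B ⊗[D] C) (NB j) D1) (RingHom.Finite.of_surjective _ ε.symm.surjective)
    exact h1
  · intro Q
    obtain ⟨j, Q', hQ'⟩ := hcov D1 hu0 (PrimeSpectrum.comap ε.toAlgHom.toRingHom Q)
    refine ⟨j, Q', ?_⟩
    have key : ∀ z, μ j z ∈ Q'.asIdeal ↔ ε z ∈ Q.asIdeal := fun z =>
      Iff.of_eq (congrArg (fun P : PrimeSpectrum _ => z ∈ P.asIdeal) hQ')
    apply PrimeSpectrum.ext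
    ext x
    change μ j (ε.symm x) ∈ Q'.asIdeal ↔ x ∈ Q.asIdeal
    rw [key, AlgEquiv.apply_symm_apply]
  · intro j
    rw [← hmdim j, ringKrullDim_eq_of_ringEquiv (eq j)]
    have := hNfin j
    have : Algebra.IsIntegral (Ω ⊗[D] C) (N j) := Algebra.IsIntegral.of_finite _ _
    exact (Groth.Agent.FlatA.DimFin.ringKrullDim_le_of_isIntegral (Ω ⊗[D] C) (N j)).trans
      (dim_tensor_le D K Ω C)
  · intro j
    exact isGood_of (y j) (g j) (huj j) Ω Subtype.val_injective (hdomΩ j) (hgood j)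
  · intro j
    have h1 : I0.map (((μ j).toRingHom.comp ε.symm.toAlgHom.toRingHom).comp
        (Algebra.TensorProduct.includeRight : C →ₐ[D] D1 ⊗[D] C).toRingHom) =
        (IB j).map (inc B (NB j) D1) := by
      change _ = (I0.map _).map (inc B (NB j) D1).toRingHom
      rw [Ideal.map_map]
      congr 1
    change IsGoodPair D1 (D1 ⊗[B] NB j) (I0.map (((μ j).toRingHom.comp ε.symm.toAlgHom.toRingHom).comp
        (Algebra.TensorProduct.includeRight : C →ₐ[D] D1 ⊗[D] C).toRingHom)) _ _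
    rw [h1]
    exact isGoodPair_of (y j) (g j) (gp j) (huj j) (hupj j) (hgood j) (IB j) (JB j) le_sup_left (FB j) _
      (fun z => Finset.mem_image) ⟨hgp' j, hgp'' j⟩

end K142.Gen
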