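import Groth.Agent.EtAcyc.K142.GenPairMain
import Groth.Agent.EtAcyc.K142.GenNzd

/-!
# The generic construction for a pair, with a nonzerodivisor in the ideal

`K142.Gen.main_pair2` is `K142.Gen.main_pair` with one more clause: every `J j` is zero or contains an element which
stays a nonzerodivisor after every base change.
-/

set_option autoImplicit false
set_option linter.style.haveILetI false
universe u
open TensorProduct

namespace K142.Gen

open K142.GenNoeth (psi)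
open K142.GenPair (inc)

/-- An element which stays a nonzerodivisor after every base change from `B` which inverts `h`, stays a nonzerodivisor
after every base change from `D1`. -/
theorem nzd_of {B D1 A : Type u} [CommRing B] [CommRing D1] [CommRing A] [Algebra B A] [Algebra B D1]
    (h : B) (hu : IsUnit (algebraMap B D1 h)) (f : A)
    (H : ∀ (E : Type u) [CommRing E] [Algebra B E], IsUnit (algebraMap B E h) →
      ∀ z : E ⊗[B] A, ((1 : E) ⊗ₜ[B] f) * z = 0 → z = 0)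
    (E : Type u) [CommRing E] [Algebra D1 E] (z : E ⊗[D1] (D1 ⊗[B] A))
    (hz : ((1 : E) ⊗ₜ[D1] ((1 : D1) ⊗ₜ[B] f)) * z = 0) : z = 0 := by
  letI : Algebra B E := ((algebraMap D1 E).comp (algebraMap B D1)).toAlgebra
  haveI : IsScalarTower B D1 E := .of_algebraMap_eq fun _ => rfl
  let e : E ⊗[D1] (D1 ⊗[B] A) ≃ₐ[E] E ⊗[B] A := Algebra.TensorProduct.cancelBaseChange B D1 E E A
  have h1 : e.symm ((1 : E) ⊗ₜ[B] f) = (1 : E) ⊗ₜ[D1] ((1 : D1) ⊗ₜ[B] f) :=
    Algebra.TensorProduct.cancelBaseChange_symm_tmul ..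
  have h1' : e ((1 : E) ⊗ₜ[D1] ((1 : D1) ⊗ₜ[B] f)) = (1 : E) ⊗ₜ[B] f := by
    rw [← h1, e.apply_symm_apply]
  have h2 : e z = 0 := H E (hu.map (algebraMap D1 E)) (e z) (by rw [← h1', ← map_mul, hz, map_zero])
  exact (map_eq_zero_iff e e.injective).1 h2

/-- An element which stays a nonzerodivisor after base change stays nonzero over every base over which the algebra does
not vanish. -/
theorem ne_zero_of_nzd {D1 A : Type u} [CommRing D1] [CommRing A] [Algebra D1 A] {f : A}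
    (H : ∀ (E : Type u) [CommRing E] [Algebra D1 E] (z : E ⊗[D1] A), ((1 : E) ⊗ₜ[D1] f) * z = 0 → z = 0)
    (E : Type u) [CommRing E] [Algebra D1 E] [Nontrivial (E ⊗[D1] A)] : (1 : E) ⊗ₜ[D1] f ≠ 0 := fun h0 =>
  one_ne_zero (H E 1 (by rw [h0, zero_mul]))

/-- The generic construction for a pair, with a nonzerodivisor in the ideal. -/
theorem main_pair2 (D C : Type u) [CommRing D] [IsDomain D] [IsNoetherianRing D] [CommRing C] [Algebra D C]
    [Algebra.FiniteType D C] (I0 : Ideal C) :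
    ∃ (d : D) (D1 : Type u) (_ : CommRing D1) (_ : Algebra D D1) (_ : Algebra (Localization.Away d) D1)
      (n : ℕ) (A : Fin n → Type u) (_ : ∀ j, CommRing (A j)) (_ : ∀ j, Algebra D1 (A j))
      (_ : ∀ j, Algebra (D1 ⊗[D] C) (A j)) (m : Fin n → ℕ) (y : ∀ j, Fin (m j) → A j)
      (J : ∀ j, Ideal (A j)) (S : ∀ j, Finset (A j)),
      d ≠ 0 ∧ IsDomain D1 ∧ IsScalarTower D (Localization.Away d) D1 ∧
      Module.Finite (Localization.Away d) D1 ∧ Function.Injective (algebraMap (Localization.Away d) D1) ∧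
      (∀ j, IsScalarTower D1 (D1 ⊗[D] C) (A j)) ∧ (∀ j, Module.Finite (D1 ⊗[D] C) (A j)) ∧
      (∀ Q : PrimeSpectrum (D1 ⊗[D] C), ∃ (j : Fin n) (Q' : PrimeSpectrum (A j)),
        PrimeSpectrum.comap (algebraMap (D1 ⊗[D] C) (A j)) Q' = Q) ∧
      (∀ j, ((m j : ℕ) : WithBot ℕ∞) ≤ ringKrullDim (FractionRing D ⊗[D] C)) ∧
      (∀ j, IsGood D1 (A j) (y j)) ∧
      (∀ j, IsGoodPair D1 (A j) (I0.map ((algebraMap (D1 ⊗[D] C) (A j)).comp
        (Algebra.TensorProduct.includeRight : C →ₐ[D] D1 ⊗[D] C).toRingHom)) (J j) (S j)) ∧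
      ∀ j, J j = ⊥ ∨ ∃ f ∈ J j, ∀ (E : Type u) [CommRing E] [Algebra D1 E] (z : E ⊗[D1] A j),
        ((1 : E) ⊗ₜ[D1] f) * z = 0 → z = 0 := by
  classical
  let K := FractionRing D
  let Ω := AlgebraicClosure K
  have hDK : Function.Injective (algebraMap D K) := IsFractionRing.injective D K
  have hinj : Function.Injective (algebraMap D Ω) := by
    rw [IsScalarTower.algebraMap_eq D K Ω]
    exact (algebraMap K Ω).injective.comp hDK
  have hDKalg : Algebra.IsAlgebraic D K := IsLocalization.isAlgebraic K (nonZeroDivisors D)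
  have hDΩ : Algebra.IsAlgebraic D Ω := Algebra.IsAlgebraic.trans D K Ω
  have hR : IsNoetherianRing (Ω ⊗[D] C) := Algebra.FiniteType.isNoetherianRing Ω _
  obtain ⟨n, N, iN, aN, hNfin, hNdom, hNic, hNnil⟩ := K142.GenCover.exists_normalizations Ω (Ω ⊗[D] C)
  letI aΩN : ∀ j, Algebra Ω (N j) := fun j => ((algebraMap (Ω ⊗[D] C) (N j)).comp
    (Algebra.TensorProduct.includeLeftRingHom : Ω →+* Ω ⊗[D] C)).toAlgebra
  haveI tΩN : ∀ j, IsScalarTower Ω (Ω ⊗[D] C) (N j) := fun j => .of_algebraMap_eq fun _ => rfl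
  have hNft : ∀ j, Algebra.FiniteType Ω (N j) := fun j => by
    have h1 : Algebra.FiniteType Ω (Ω ⊗[D] C) := inferInstance
    have h2 : Algebra.FiniteType (Ω ⊗[D] C) (N j) := inferInstance
    exact Algebra.FiniteType.trans h1 h2
  have hNN : ∀ j, IsNoetherianRing (N j) := fun j => Algebra.FiniteType.isNoetherianRing Ω _
  let IN : ∀ j, Ideal (N j) := fun j => I0.map ((algebraMap (Ω ⊗[D] C) (N j)).comp
    (Algebra.TensorProduct.includeRight : C →ₐ[D] Ω ⊗[D] C).toRingHom)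
  choose FN hFN hFN' using fun j => K142.GenPairGeo.exists_smooth_cover Ω (N j) (IN j).radical
    (Ideal.radical_isRadical _)
  choose GN hGN using fun j => (IsNoetherian.noetherian (IN j).radical : (IN j).radical.FG)
  choose s hs using fun j => exists_form2 (D := D) (Ω := Ω) (C := C) (N j) (FN j ∪ GN j)
  obtain ⟨W, hW⟩ := K142.GenBase.exists_finset (D := D) (Ω := Ω) (C := C) (Finset.univ.biUnion s)
  obtain ⟨d0, hd0, hWint⟩ := K142.GenBase.exists_integral_data (D := D) (Ω := Ω) W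
  let B : Subalgebra D Ω := K142.GenBase.sub d0 W
  have hBs : ∀ j, ∀ x ∈ s j, x ∈ (bcMap D Ω C B).range := fun j x hx =>
    hW B (K142.GenBase.subset_sub d0 W) x (Finset.mem_biUnion.2 ⟨j, Finset.mem_univ j, hx⟩)
  have hBft : Algebra.FiniteType D B := by
    have h1 : B.FG := ⟨insert (algebraMap D Ω d0)⁻¹ W, by rw [Finset.coe_insert]; rfl⟩
    exact (Subalgebra.fg_iff_finiteType _).1 h1
  have hBN : IsNoetherianRing B := Algebra.FiniteType.isNoetherianRing D B
  have hBinj : Function.Injective (algebraMap B Ω) := Subtype.val_injective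
  choose NB iNB aTNB aBNB tNB ι e hι hιc hfin he hbij hmark using fun j => hs j B (hBs j)
  have hTN : IsNoetherianRing (B ⊗[D] C) := Algebra.FiniteType.isNoetherianRing B _
  have hNBft : ∀ j, Algebra.FiniteType B (NB j) := fun j => by
    have h1 : Algebra.FiniteType B (B ⊗[D] C) := inferInstance
    have h2 : Algebra.FiniteType (B ⊗[D] C) (NB j) := inferInstance
    exact Algebra.FiniteType.trans h1 h2
  let eq : ∀ j, Ω ⊗[B] NB j ≃+* N j := fun j => RingEquiv.ofBijective (e j) (hbij j)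
  have hdomΩ : ∀ j, IsDomain (Ω ⊗[B] NB j) := fun j => (eq j).toMulEquiv.isDomain _
  have hicΩ : ∀ j, IsIntegrallyClosed (Ω ⊗[B] NB j) := fun j => IsIntegrallyClosed.of_equiv (eq j).symm
  choose m y g hg hmdim hgood using fun j =>
    K142.GenPiece.exists_piece (B := B) (A := NB j) Ω hBinj (hdomΩ j) (hicΩ j)
  have heC : ∀ j (ω : Ω), eq j (algebraMap Ω (Ω ⊗[B] NB j) ω) = algebraMap Ω (N j) ω := fun j ω => by
    change e j (ω ⊗ₜ 1) = _
    rw [he, map_one, mul_one]
    rfl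
  let eA : ∀ j, Ω ⊗[B] NB j ≃ₐ[Ω] N j := fun j => AlgEquiv.ofRingEquiv (f := eq j) (heC j)
  have heA : ∀ j (n : NB j), eA j ((1 : Ω) ⊗ₜ[B] n) = ι j n := fun j n => by
    change e j (1 ⊗ₜ n) = _
    rw [he, show ((1 : Ω) ⊗ₜ[D] (1 : C)) = 1 from rfl, map_one, one_mul]
  have hpre : ∀ j (z : N j), ∃ n : NB j, z ∈ FN j ∪ GN j → ι j n = z := fun j z => by
    by_cases hz : z ∈ FN j ∪ GN j
    · obtain ⟨n, hn⟩ := hmark j z hz
      exact ⟨n, fun _ => hn⟩
    · exact ⟨0, fun h => absurd h hz⟩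
  choose pre hpre using hpre
  have hdimN : ∀ j, ringKrullDim (N j) = m j := fun j => by
    rw [← hmdim j, ringKrullDim_eq_of_ringEquiv (eq j)]
  let IB : ∀ j, Ideal (NB j) := fun j => I0.map ((algebraMap (B ⊗[D] C) (NB j)).comp
    (Algebra.TensorProduct.includeRight : C →ₐ[D] B ⊗[D] C).toRingHom)
  let JB : ∀ j, Ideal (NB j) := fun j => IB j ⊔ Ideal.span ((GN j).image (pre j) : Finset (NB j))
  let FB : ∀ j, Finset (NB j) := fun j => (FN j).image (pre j)
  have hIB : ∀ j, ((IB j).map (inc B (NB j) Ω)).map (eA j : Ω ⊗[B] NB j →+* N j) = IN j := fun j => by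
    have h1 : ((eA j : Ω ⊗[B] NB j →+* N j).comp (inc B (NB j) Ω).toRingHom).comp
        ((algebraMap (B ⊗[D] C) (NB j)).comp
          (Algebra.TensorProduct.includeRight : C →ₐ[D] B ⊗[D] C).toRingHom) =
        (algebraMap (Ω ⊗[D] C) (N j)).comp
          (Algebra.TensorProduct.includeRight : C →ₐ[D] Ω ⊗[D] C).toRingHom := by
      refine RingHom.ext fun c => ?_
      change eA j ((1 : Ω) ⊗ₜ[B] (algebraMap (B ⊗[D] C) (NB j) (1 ⊗ₜ c))) =
        algebraMap (Ω ⊗[D] C) (N j) (1 ⊗ₜ c)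
      rw [heA, hιc]
      change algebraMap (Ω ⊗[D] C) (N j) (algebraMap B Ω 1 ⊗ₜ c) = _
      rw [map_one]
    change ((I0.map _).map (inc B (NB j) Ω).toRingHom).map (eA j : Ω ⊗[B] NB j →+* N j) = _
    rw [Ideal.map_map, Ideal.map_map, h1]
  have hJB : ∀ j, ((JB j).map (inc B (NB j) Ω)).map (eA j : Ω ⊗[B] NB j →+* N j) = (IN j).radical := fun j => by
    have h1 : (JB j).map (inc B (NB j) Ω) = (IB j).map (inc B (NB j) Ω) ⊔
        (Ideal.span ((GN j).image (pre j) : Finset (NB j))).map (inc B (NB j) Ω) := Ideal.map_sup _ _ _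
    rw [h1, Ideal.map_sup, hIB, Ideal.map_span, Ideal.map_span]
    have h2 : (eA j : Ω ⊗[B] NB j →+* N j) '' ((inc B (NB j) Ω) '' (((GN j).image (pre j) : Finset (NB j)) :
        Set (NB j))) = (GN j : Set (N j)) := by
      ext z
      constructor
      · rintro ⟨_, ⟨n, hn, rfl⟩, rfl⟩
        obtain ⟨w, hw, rfl⟩ := Finset.mem_image.1 (Finset.mem_coe.1 hn)
        have h3 : (eA j : Ω ⊗[B] NB j →+* N j) ((inc B (NB j) Ω) (pre j w)) = w := by
          change eA j ((1 : Ω) ⊗ₜ[B] (pre j w)) = w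
          rw [heA, hpre j w (Finset.mem_union_right _ hw)]
        rw [h3]
        exact hw
      · intro hz
        refine ⟨_, ⟨pre j z, Finset.mem_coe.2 (Finset.mem_image_of_mem _ hz), rfl⟩, ?_⟩
        change eA j ((1 : Ω) ⊗ₜ[B] (pre j z)) = z
        rw [heA, hpre j z (Finset.mem_union_right _ hz)]
    rw [h2]
    have h4 : Ideal.span (GN j : Set (N j)) = (IN j).radical := hGN j
    rw [h4]
    exact sup_eq_right.2 Ideal.le_radical
  have hFB : ∀ j, ∀ f ∈ FB j, ∃ w ∈ FN j, eA j ((1 : Ω) ⊗ₜ[B] f) = w := fun j f hf => by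
    obtain ⟨w, hw, rfl⟩ := Finset.mem_image.1 hf
    exact ⟨w, hw, by rw [heA, hpre j w (Finset.mem_union_left _ hw)]⟩
  choose gp hgp hgp' hgp'' using fun j => K142.GenPair.exists_pair_of_form Ω hBinj (eA j) (m j) (hdimN j)
    (IB j) (JB j) (FB j) (IN j) (IN j).radical rfl (hIB j) (hJB j)
    (fun f hf => by
      obtain ⟨w, hw, h⟩ := hFB j f hf
      rw [h]; exact (hFN j w hw).1)
    (fun f hf => by
      obtain ⟨w, hw, h⟩ := hFB j f hf
      rw [h]; exact (hFN j w hw).2)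
    (fun q hq hqh => by
      obtain ⟨w, hw, hwq⟩ := hFN' j q hq hqh
      refine ⟨pre j w, Finset.mem_image_of_mem _ hw, ?_⟩
      rw [heA, hpre j w (Finset.mem_union_left _ hw)]
      exact hwq)
  have hnzd : ∀ j, ∃ h : B, h ≠ 0 ∧ (JB j = ⊥ ∨ ∃ f ∈ JB j, ∀ (E : Type u) [CommRing E] [Algebra B E],
      IsUnit (algebraMap B E h) → ∀ z : E ⊗[B] NB j, ((1 : E) ⊗ₜ[B] f) * z = 0 → z = 0) := by
    intro j
    by_cases hJ : JB j = ⊥
    · exact ⟨1, one_ne_zero, Or.inl hJ⟩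
    · haveI : IsDomain (NB j) := (hι j).isDomain (ι j)
      obtain ⟨f, hf, hf0⟩ := Submodule.exists_mem_ne_zero_of_ne_bot hJ
      obtain ⟨b, hb, h⟩ := K142.GenNzd.exists_nzd (B := B) f (fun z hz => (mul_eq_zero.1 hz).resolve_left hf0)
      exact ⟨b, hb, Or.inr ⟨f, hf, h⟩⟩
  choose hz hhz hhz' using hnzd
  obtain ⟨g0, hg0, hcov⟩ := K142.GenCover.exists_cover (B := B) (T := B ⊗[D] C) Ω hBinj NB (by
    intro x hx
    have h1 : IsNilpotent (bcMap D Ω C B x) := by
      apply hNnil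
      intro j
      rw [← hιc j, hx j, map_zero]
    have h2 : IsNilpotent ((Algebra.TensorProduct.cancelBaseChange D B Ω Ω C) ((1 : Ω) ⊗ₜ[B] x)) := by
      rw [cancel_bcMap]
      exact h1
    exact (IsNilpotent.map_iff (Algebra.TensorProduct.cancelBaseChange D B Ω Ω C).injective).1 h2)
  have hg' : g0 * ∏ j, (g j * gp j * hz j) ≠ 0 :=
    mul_ne_zero hg0 (Finset.prod_ne_zero_iff.2 fun j _ => mul_ne_zero (mul_ne_zero (hg j) (hgp j)) (hhz j))
  obtain ⟨d, hd, hdvd, hunit⟩ := K142.GenBase.exists_isUnit hinj hd0 W (g0 * ∏ j, (g j * gp j * hz j)) hg'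
  have hle := K142.GenBase.sub_mono hinj hd hdvd W
  let D1 : Subalgebra D Ω := K142.GenBase.sub d W
  obtain ⟨algD1, towD1, finD1, injD1⟩ := K142.GenBase.finite_sub hinj hd W (fun w hw => by
    obtain ⟨m, hm, hmi⟩ := hWint w hw
    exact ⟨m, hm.trans hdvd, hmi⟩)
  letI aBD1 : Algebra B D1 := (Subalgebra.inclusion hle).toRingHom.toAlgebra
  haveI tDBD1 : IsScalarTower D B D1 := .of_algebraMap_eq fun _ => rfl
  haveI tBD1Ω : IsScalarTower B D1 Ω := .of_algebraMap_eq fun _ => rfl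
  have hug : IsUnit (algebraMap B D1 (g0 * ∏ j, (g j * gp j * hz j))) := hunit hle
  have hu0 : IsUnit (algebraMap B D1 g0) := isUnit_of_dvd_unit (map_dvd _ (dvd_mul_right _ _)) hug
  have hujjj : ∀ j, IsUnit (algebraMap B D1 (g j * gp j * hz j)) := fun j =>
    isUnit_of_dvd_unit (map_dvd _ (dvd_mul_of_dvd_right
      (Finset.dvd_prod_of_mem (fun j => g j * gp j * hz j) (Finset.mem_univ j)) _)) hug
  have hujj : ∀ j, IsUnit (algebraMap B D1 (g j * gp j)) := fun j =>
    isUnit_of_dvd_unit (map_dvd _ (dvd_mul_right _ _)) (hujjj j)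
  have huzj : ∀ j, IsUnit (algebraMap B D1 (hz j)) := fun j =>
    isUnit_of_dvd_unit (map_dvd _ (dvd_mul_left _ _)) (hujjj j)
  have huj : ∀ j, IsUnit (algebraMap B D1 (g j)) := fun j =>
    isUnit_of_dvd_unit (map_dvd _ (dvd_mul_right _ _)) (hujj j)
  have hupj : ∀ j, IsUnit (algebraMap B D1 (gp j)) := fun j =>
    isUnit_of_dvd_unit (map_dvd _ (dvd_mul_left _ _)) (hujj j)
  let ε : D1 ⊗[B] (B ⊗[D] C) ≃ₐ[D1] D1 ⊗[D] C := Algebra.TensorProduct.cancelBaseChange D B D1 D1 C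
  let μ : ∀ j, D1 ⊗[B] (B ⊗[D] C) →ₐ[D1] D1 ⊗[B] NB j := fun j =>
    Algebra.TensorProduct.map (AlgHom.id D1 D1) (IsScalarTower.toAlgHom B (B ⊗[D] C) (NB j))
  letI aTA : ∀ j, Algebra (D1 ⊗[D] C) (D1 ⊗[B] NB j) := fun j =>
    ((μ j).toRingHom.comp ε.symm.toAlgHom.toRingHom).toAlgebra
  refine ⟨d, D1, inferInstance, inferInstance, algD1, n, fun j => D1 ⊗[B] NB j, fun j => inferInstance,
    fun j => inferInstance, aTA, m, fun j i => (1 : D1) ⊗ₜ[B] y j i, fun j => (JB j).map (inc B (NB j) D1),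
    fun j => (FB j).image (fun f => (1 : D1) ⊗ₜ[B] f), hd, inferInstance, towD1, finD1, injD1,
    ?_, ?_, ?_, ?_, ?_, ?_, ?_⟩
  · intro j
    refine .of_algebraMap_eq fun x => ?_
    change _ = μ j (ε.symm (algebraMap D1 (D1 ⊗[D] C) x))
    rw [AlgEquiv.commutes, AlgHom.commutes]
  · intro j
    have h1 : ((μ j).toRingHom.comp ε.symm.toAlgHom.toRingHom).Finite :=
      RingHom.Finite.comp (finite_map B (B ⊗[D] C) (NB j) D1) (RingHom.Finite.of_surjective _ ε.symm.surjective)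
    exact h1
  · intro Q
    obtain ⟨j, Q', hQ'⟩ := hcov D1 hu0 (PrimeSpectrum.comap ε.toAlgHom.toRingHom Q)
    refine ⟨j, Q', ?_⟩
    have key : ∀ z, μ j z ∈ Q'.asIdeal ↔ ε z ∈ Q.asIdeal := fun z =>
      Iff.of_eq (congrArg (fun P : PrimeSpectrum _ => z ∈ P.asIdeal) hQ')
    apply PrimeSpectrum.ext
    ext x
    change μ j (ε.symm x) ∈ Q'.asIdeal ↔ x ∈ Q.asIdeal
    rw [key, AlgEquiv.apply_symm_apply]
  · intro j
    rw [← hmdim j, ringKrullDim_eq_of_ringEquiv (eq j)]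
    have := hNfin j
    have : Algebra.IsIntegral (Ω ⊗[D] C) (N j) := Algebra.IsIntegral.of_finite _ _
    exact (Groth.Agent.FlatA.DimFin.ringKrullDim_le_of_isIntegral (Ω ⊗[D] C) (N j)).trans
      (dim_tensor_le D K Ω C)
  · intro j
    exact isGood_of (y j) (g j) (huj j) Ω Subtype.val_injective (hdomΩ j) (hgood j)
  · intro j
    have h1 : I0.map (((μ j).toRingHom.comp ε.symm.toAlgHom.toRingHom).comp
        (Algebra.TensorProduct.includeRight : C →ₐ[D] D1 ⊗[D] C).toRingHom) =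
        (IB j).map (inc B (NB j) D1) := by
      change _ = (I0.map _).map (inc B (NB j) D1).toRingHom
      rw [Ideal.map_map]
      congr 1
    change IsGoodPair D1 (D1 ⊗[B] NB j) (I0.map (((μ j).toRingHom.comp ε.symm.toAlgHom.toRingHom).comp
        (Algebra.TensorProduct.includeRight : C →ₐ[D] D1 ⊗[D] C).toRingHom)) _ _
    rw [h1]
    exact isGoodPair_of (y j) (g j) (gp j) (huj j) (hupj j) (hgood j) (IB j) (JB j) le_sup_left (FB j) _
      (fun z => Finset.mem_image) ⟨hgp' j, hgp'' j⟩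
  · intro j
    rcases hhz' j with hJ | ⟨f, hf, hE⟩
    · left
      change (JB j).map (inc B (NB j) D1) = ⊥
      rw [hJ, Ideal.map_bot]
    · right
      exact ⟨(1 : D1) ⊗ₜ[B] f, Ideal.mem_map_of_mem (inc B (NB j) D1) hf, fun E _ _ z h0 =>
        nzd_of (hz j) (huzj j) f hE E z h0⟩

end K142.Gen
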