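import Groth.Agent.EtAcyc.K142.GenMain

/-!
# Convenient forms of the output of the generic construction
-/

set_option autoImplicit false
set_option linter.style.haveILetI false
universe u
open TensorProduct

namespace K142.Gen

open K142.GenNoeth (psi)

variable {D1 A : Type u} [CommRing D1] [CommRing A] [Algebra D1 A] {m : ℕ} {y : Fin m → A}

/-- The Noether normalization of `A` over `D1` is finite. -/
theorem IsGood.finite_aeval (h : IsGood D1 A y) :
    (MvPolynomial.aeval y : MvPolynomial (Fin m) D1 →ₐ[D1] A).toRingHom.Finite := by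
  have h1 : (MvPolynomial.aeval y : MvPolynomial (Fin m) D1 →ₐ[D1] A) =
      (Algebra.TensorProduct.lid D1 A).toAlgHom.comp (psi D1 y D1) := by
    apply MvPolynomial.algHom_ext
    intro i
    rw [MvPolynomial.aeval_X, AlgHom.comp_apply, K142.GenNoeth.psi_X]
    simp
  rw [h1]
  exact RingHom.Finite.comp (RingHom.Finite.of_surjective _ (Algebra.TensorProduct.lid D1 A).surjective)
    (h.finite D1)

/-- The Noether normalization of `A` over `D1` is injective. -/
theorem IsGood.injective_aeval (h : IsGood D1 A y) :
    Function.Injective (MvPolynomial.aeval y : MvPolynomial (Fin m) D1 →ₐ[D1] A) := by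
  have h1 : (MvPolynomial.aeval y : MvPolynomial (Fin m) D1 →ₐ[D1] A) =
      (Algebra.TensorProduct.lid D1 A).toAlgHom.comp (psi D1 y D1) := by
    apply MvPolynomial.algHom_ext
    intro i
    rw [MvPolynomial.aeval_X, AlgHom.comp_apply, K142.GenNoeth.psi_X]
    simp
  rw [h1]
  exact (Algebra.TensorProduct.lid D1 A).injective.comp (h.injective D1)

/-- The properties after base change to a normal domain. -/
theorem IsGood.hbc (h : IsGood D1 A y) (E : Type u) [CommRing E] [IsDomain E] [IsIntegrallyClosed E]
    [Algebra D1 E] :
    IsDomain (E ⊗[D1] A) ∧ IsIntegrallyClosed (E ⊗[D1] A) ∧ Module.Flat E (E ⊗[D1] A) ∧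
      Function.Injective (MvPolynomial.aeval (R := E) fun i => ((1 : E) ⊗ₜ[D1] y i)) := by
  have := h.flat
  exact ⟨(h.normal E).1, (h.normal E).2, inferInstance, h.injective E⟩

/-- The Noether normalization stays finite after every base change. -/
theorem IsGood.finite_bc (h : IsGood D1 A y) (E : Type u) [CommRing E] [Algebra D1 E] :
    (MvPolynomial.aeval (R := E) fun i => ((1 : E) ⊗ₜ[D1] y i)).toRingHom.Finite :=
  h.finite E

end K142.Gen
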